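import Cfsg.Agent.Lib.SolvStruct.Factorization
import Cfsg.Agent.Lib.Coprime.Action

/-!
# Kegel's lemma for `p`-groups
-/

set_option autoImplicit false
set_option linter.style.haveILetI false

open scoped Pointwise

namespace CfsgLib.SolvStruct

variable {G : Type*} [Group G] [Finite G]

/-- If `A * B^x` is a `p`-subgroup for every `x`, some `p`-subgroup containing `A` is normalised
by all conjugates of `B`. -/
theorem exists_pGroup_normalized {p : ℕ} [hp : Fact p.Prime] (A B : Subgroup G)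
    (h : ∀ x : G, ∃ S : Subgroup G, IsPGroup p S ∧
      (S : Set G) = (A : Set G) * ((MulAut.conj x • B : Subgroup G) : Set G)) :
    ∃ A₁ : Subgroup G, A ≤ A₁ ∧ IsPGroup p A₁ ∧
      ∀ y : G, MulAut.conj y • B ≤ Subgroup.normalizer (A₁ : Set G) := by
  have hperm : ∀ {H C : Subgroup G} {S : Subgroup G}, (S : Set G) = (H : Set G) * (C : Set G) →
      ∀ w ∈ H, ∀ c ∈ C, ∃ c' ∈ C, ∃ w' ∈ H, w * c = c' * w' := by
    intro H C S hS w hw c hc
    have h1 : w * c ∈ S := by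
      rw [← SetLike.mem_coe, hS]
      exact Set.mul_mem_mul hw hc
    obtain ⟨w', hw', c', hc', he⟩ := Set.mem_mul.1 (hS ▸ inv_mem h1 : (w * c)⁻¹ ∈ (H : Set G) * C)
    exact ⟨c'⁻¹, inv_mem hc', w'⁻¹, inv_mem hw', by rw [← mul_inv_rev, he, inv_inv]⟩
  have hmk : ∀ {H C : Subgroup G}, (∀ w ∈ H, ∀ c ∈ C, ∃ c' ∈ C, ∃ w' ∈ H, w * c = c' * w') →
      ∃ S : Subgroup G, (S : Set G) = (H : Set G) * (C : Set G) := by
    intro H C hp
    have hsw : ∀ c ∈ C, ∀ w ∈ H, ∃ w' ∈ H, ∃ c' ∈ C, c * w = w' * c' := fun c hc w hw => by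
      obtain ⟨c', hc', w', hw', he⟩ := hp w⁻¹ (inv_mem hw) c⁻¹ (inv_mem hc)
      exact ⟨w'⁻¹, inv_mem hw', c'⁻¹, inv_mem hc', by rw [← mul_inv_rev, ← he, mul_inv_rev, inv_inv, inv_inv]⟩
    refine ⟨{ carrier := (H : Set G) * (C : Set G)
              one_mem' := ⟨1, one_mem H, 1, one_mem C, mul_one 1⟩
              mul_mem' := ?_
              inv_mem' := ?_ }, rfl⟩
    · rintro _ _ ⟨a, ha, b, hb, rfl⟩ ⟨a', ha', b', hb', rfl⟩
      obtain ⟨w, hw, c, hc, he⟩ := hsw b hb a' ha'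
      exact ⟨a * w, mul_mem ha hw, c * b', mul_mem hc hb', by
        calc a * w * (c * b') = a * (w * c) * b' := by group
          _ = _ := by rw [← he]; group⟩
    · rintro _ ⟨a, ha, b, hb, rfl⟩
      obtain ⟨w, hw, c, hc, he⟩ := hsw b⁻¹ (inv_mem hb) a⁻¹ (inv_mem ha)
      exact ⟨w, hw, c, hc, by simp only [mul_inv_rev, he]⟩
  let P : Subgroup G → Prop := fun A₁ => ∀ x : G, ∃ S : Subgroup G, IsPGroup p S ∧
    (S : Set G) = (A₁ : Set G) * ((MulAut.conj x • B : Subgroup G) : Set G)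
  obtain ⟨A₁, hle, hmax⟩ := Finite.exists_le_maximal (p := P) (show P A from h)
  have hnorm : ∀ y : G, MulAut.conj y • B ≤ Subgroup.normalizer (A₁ : Set G) := by
    intro y b hb
    obtain ⟨S, hSp, hS⟩ := hmax.prop y
    have hA₁S : A₁ ≤ S := fun a ha => by
      rw [← SetLike.mem_coe, hS]
      exact ⟨a, ha, 1, one_mem _, mul_one a⟩
    have hBS : MulAut.conj y • B ≤ S := fun c hc => by
      rw [← SetLike.mem_coe, hS]
      exact ⟨1, one_mem _, c, hc, one_mul c⟩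
    set A₂ := MulAut.conj b • A₁ with hA₂
    have hA₂S : A₂ ≤ S := by
      intro u hu
      rw [hA₂, CfsgLib.Coprime.mem_conj_smul] at hu
      have := mul_mem (mul_mem (hBS hb) (hA₁S hu)) (inv_mem (hBS hb))
      simpa [mul_assoc] using this
    have hP : P (A₁ ⊔ A₂) := by
      intro x
      have hp1 := hperm (hmax.prop x).choose_spec.2
      have hp2 : ∀ w ∈ A₂, ∀ c ∈ MulAut.conj x • B, ∃ c' ∈ MulAut.conj x • B, ∃ w' ∈ A₂,
          w * c = c' * w' := by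
        intro w hw c hc
        have hp := hperm (hmax.prop (b⁻¹ * x)).choose_spec.2
        rw [hA₂, CfsgLib.Coprime.mem_conj_smul] at hw
        obtain ⟨c', hc', w', hw', he⟩ := hp _ hw (b⁻¹ * c * b) (by
          rw [CfsgLib.Coprime.mem_conj_smul] at hc ⊢
          simpa [mul_assoc] using hc)
        refine ⟨b * c' * b⁻¹, ?_, b * w' * b⁻¹, ?_, ?_⟩
        · rw [CfsgLib.Coprime.mem_conj_smul] at hc' ⊢
          simpa [mul_assoc] using hc'
        · rw [hA₂, CfsgLib.Coprime.mem_conj_smul]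
          simpa [mul_assoc] using hw'
        · calc w * c = b * ((b⁻¹ * w * b) * (b⁻¹ * c * b)) * b⁻¹ := by group
            _ = _ := by rw [he]; group
      have hsup : ∀ w ∈ A₁ ⊔ A₂, ∀ c ∈ MulAut.conj x • B, ∃ c' ∈ MulAut.conj x • B,
          ∃ w' ∈ A₁ ⊔ A₂, w * c = c' * w' := by
        intro w hw
        rw [Subgroup.sup_eq_closure] at hw
        refine (Subgroup.closure_induction
          (p := fun v _ => ∀ c ∈ MulAut.conj x • B,
            (∃ c' ∈ MulAut.conj x • B, ∃ w' ∈ A₁ ⊔ A₂, v * c = c' * w') ∧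
            (∃ c' ∈ MulAut.conj x • B, ∃ w' ∈ A₁ ⊔ A₂, v⁻¹ * c = c' * w')) ?_ ?_ ?_ ?_ hw · · |>.1)
        · rintro v (hv | hv) c hc
          · obtain ⟨c', hc', w', hw', he⟩ := hp1 v hv c hc
            obtain ⟨c'', hc'', w'', hw'', he'⟩ := hp1 v⁻¹ (inv_mem hv) c hc
            exact ⟨⟨c', hc', w', Subgroup.mem_sup_left hw', he⟩,
              ⟨c'', hc'', w'', Subgroup.mem_sup_left hw'', he'⟩⟩
          · obtain ⟨c', hc', w', hw', he⟩ := hp2 v hv c hc
            obtain ⟨c'', hc'', w'', hw'', he'⟩ := hp2 v⁻¹ (inv_mem hv) c hc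
            exact ⟨⟨c', hc', w', Subgroup.mem_sup_right hw', he⟩,
              ⟨c'', hc'', w'', Subgroup.mem_sup_right hw'', he'⟩⟩
        · exact fun c hc => ⟨⟨c, hc, 1, one_mem _, by simp⟩, ⟨c, hc, 1, one_mem _, by simp⟩⟩
        · intro u v _ _ hu hv c hc
          obtain ⟨c₁, hc₁, w₁, hw₁, e₁⟩ := (hv c hc).1
          obtain ⟨c₂, hc₂, w₂, hw₂, e₂⟩ := (hu c₁ hc₁).1
          obtain ⟨d₁, hd₁, u₁, hu₁, f₁⟩ := (hu c hc).2
          obtain ⟨d₂, hd₂, u₂, hu₂, f₂⟩ := (hv d₁ hd₁).2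
          refine ⟨⟨c₂, hc₂, w₂ * w₁, mul_mem hw₂ hw₁, ?_⟩, ⟨d₂, hd₂, u₂ * u₁, mul_mem hu₂ hu₁, ?_⟩⟩
          · rw [mul_assoc u v, e₁, ← mul_assoc, e₂, mul_assoc]
          · rw [mul_inv_rev, mul_assoc, f₁, ← mul_assoc, f₂, mul_assoc]
        · intro u _ hu c hc
          exact ⟨(hu c hc).2, by rw [inv_inv]; exact (hu c hc).1⟩
      obtain ⟨S', hS'⟩ := hmk hsup
      refine ⟨S', ?_, hS'⟩
      have hle1 : A₁ ⊔ A₂ ≤ S' := fun a ha => by
        rw [← SetLike.mem_coe, hS']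
        exact ⟨a, ha, 1, one_mem _, mul_one a⟩
      have hle2 : MulAut.conj x • B ≤ S' := fun c hc => by
        rw [← SetLike.mem_coe, hS']
        exact ⟨1, one_mem _, c, hc, one_mul c⟩
      have hf : ∀ g : S', ∃ a ∈ (A₁ ⊔ A₂).subgroupOf S', ∃ c ∈ (MulAut.conj x • B).subgroupOf S',
          g = a * c := by
        rintro ⟨g, hg⟩
        rw [← SetLike.mem_coe, hS'] at hg
        obtain ⟨a, ha, c, hc, he⟩ := Set.mem_mul.1 hg
        exact ⟨⟨a, hle1 ha⟩, ha, ⟨c, hle2 hc⟩, hc, Subtype.ext he.symm⟩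
      obtain ⟨n, hn⟩ := IsPGroup.iff_card.1 (hSp.to_le (sup_le hA₁S hA₂S))
      obtain ⟨m, hm⟩ := IsPGroup.iff_card.1 (hSp.to_le hBS)
      have h1 := relIndex_eq_index_of_factor hf
      have h2 : Nat.card S' ∣ p ^ m * p ^ n := by
        rw [← Subgroup.card_mul_index ((MulAut.conj x • B).subgroupOf S'),
          Nat.card_congr (Subgroup.subgroupOfEquivOfLe hle2).toEquiv, ← h1,
          CfsgLib.Coprime.card_conj_smul x B, ← CfsgLib.Coprime.card_conj_smul y B, hm, ← hn,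
          ← Nat.card_congr (Subgroup.subgroupOfEquivOfLe hle1).toEquiv]
        exact Nat.mul_dvd_mul_left _ (Subgroup.relIndex_dvd_card _ _)
      rw [← pow_add] at h2
      obtain ⟨t, -, ht⟩ := (Nat.dvd_prime_pow hp.out).1 h2
      exact IsPGroup.of_card ht
    have hA₂le : A₂ ≤ A₁ := le_sup_right.trans (hmax.le_of_ge hP le_sup_left)
    exact CfsgLib.Coprime.mem_normalizer_iff_conj_smul.2
      (Subgroup.eq_of_le_of_card_ge hA₂le (CfsgLib.Coprime.card_conj_smul b A₁).ge)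
  refine ⟨A₁, hle, ?_, hnorm⟩
  obtain ⟨S, hSp, hS⟩ := hmax.prop 1
  refine hSp.to_le fun a ha => ?_
  rw [← SetLike.mem_coe, hS]
  exact ⟨a, ha, 1, one_mem _, mul_one a⟩

end CfsgLib.SolvStruct
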