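import Cfsg.Agent.Lib.SolvStruct.KegelWielandt.Main
import Cfsg.Agent.Lib.SolvStruct.KegelWielandt.Kegel

/-!
# The theorem of Kegel and Wielandt
-/

set_option autoImplicit false
set_option linter.style.haveILetI false

open scoped Pointwise

namespace CfsgLib.SolvStruct.KW

universe u

theorem isSolvable_of_nilpotent_mul : ∀ (n : ℕ) {G : Type u} [Group G] [Finite G],
    Nat.card G = n → ∀ (A B : Subgroup G), Group.IsNilpotent A → Group.IsNilpotent B →
      (∀ g : G, ∃ a ∈ A, ∃ b ∈ B, g = a * b) → Group.IsSolvable G := by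
  intro n
  induction n using Nat.strong_induction_on with
  | _ n ih =>
  intro G _ _ hn A B hA hB hAB
  subst hn
  rcases subsingleton_or_nontrivial G with h | h
  · infer_instance
  by_cases hcop : (Nat.card A).Coprime (Nat.card B)
  · exact isSolvable_of_coprime_nilpotent _ rfl A B hA hB hcop hAB
  have hquot : ∀ N : Subgroup G, ∀ [N.Normal], N ≠ ⊥ → Group.IsSolvable (G ⧸ N) := by
    intro N _ hNb
    refine ih _ ?_ rfl (A.map (QuotientGroup.mk' N)) (B.map (QuotientGroup.mk' N)) ?_ ?_ ?_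
    · rw [N.card_eq_card_quotient_mul_card_subgroup]
      exact lt_mul_of_one_lt_right Nat.card_pos (N.one_lt_card_iff_ne_bot.2 hNb)
    · haveI := hA
      exact Group.nilpotent_of_surjective _ ((QuotientGroup.mk' N).subgroupMap_surjective A)
    · haveI := hB
      exact Group.nilpotent_of_surjective _ ((QuotientGroup.mk' N).subgroupMap_surjective B)
    · intro q
      obtain ⟨g, rfl⟩ := QuotientGroup.mk'_surjective N q
      obtain ⟨a, ha, b, hb, rfl⟩ := hAB g
      exact ⟨_, Subgroup.mem_map_of_mem _ ha, _, Subgroup.mem_map_of_mem _ hb, map_mul _ _ _⟩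
  by_contra hns
  obtain ⟨N, hN⟩ := CfsgLib.Base.exists_isMinimalNormal (G := G)
  haveI := hN.normal
  have hNns : ¬ Group.IsSolvable N := fun h => hns (by
    haveI := h
    haveI := hquot N hN.ne_bot
    exact solvable_of_ker_le_range N.subtype (QuotientGroup.mk' N) (by simp))
  have hC : Subgroup.centralizer (N : Set G) = ⊥ := by
    by_contra hne
    obtain ⟨M, hMC, hM⟩ := CfsgLib.Base.exists_isMinimalNormal_le hne
    haveI := hM.normal
    by_cases hMN : N ≤ M
    · refine hNns (isSolvable_of_comm fun a b => Subtype.ext ?_)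
      exact (Subgroup.mem_centralizer_iff.1 (hMC (hMN b.2)) a a.2)
    · haveI := hquot M hM.ne_bot
      have hNM : N ⊓ M = ⊥ := (hN.le_or_inf_eq_bot M).resolve_left hMN
      refine hNns (solvable_of_solvable_injective (f := (QuotientGroup.mk' M).comp N.subtype) ?_)
      rw [← MonoidHom.ker_eq_bot_iff, ← MonoidHom.comap_ker, QuotientGroup.ker_mk']
      exact Subgroup.subgroupOf_eq_bot.2 (disjoint_iff.2 (by rwa [inf_comm]))
  obtain ⟨p, hp, hpa, hpb⟩ := Nat.Prime.not_coprime_iff_dvd.1 hcop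
  haveI := Fact.mk hp
  obtain ⟨P, Q, R, hPR, hQR, hR⟩ := exists_sylow_mul hAB p
  haveI hPn : (P : Subgroup A).Normal := by
    haveI := hA
    exact P.normal_of_normalizerCondition Group.normalizerCondition_of_isNilpotent
  haveI hQn : (Q : Subgroup B).Normal := by
    haveI := hB
    exact Q.normal_of_normalizerCondition Group.normalizerCondition_of_isNilpotent
  set P' := (P : Subgroup A).map A.subtype with hP'
  set Q' := (Q : Subgroup B).map B.subtype with hQ'
  have hfix : ∀ {A : Subgroup G} (P : Subgroup A) [P.Normal], ∀ a ∈ A,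
      MulAut.conj a • P.map A.subtype = P.map A.subtype := fun {A} P _ a ha =>
    CfsgLib.Coprime.mem_normalizer_iff_conj_smul.1 (Subgroup.le_normalizer_map A.subtype
      ⟨⟨a, ha⟩, by rw [SetLike.mem_coe, Subgroup.normalizer_eq_top]; exact Subgroup.mem_top _, rfl⟩)
  obtain ⟨A₁, hPA₁, hA₁p, hA₁n⟩ := exists_pGroup_normalized P' Q' (p := p) (fun x => by
    obtain ⟨a, ha, b, hb, rfl⟩ := hAB x
    have hQe : MulAut.conj (a * b) • Q' = MulAut.conj a • Q' := by
      rw [map_mul, mul_smul, hQ', hfix _ b hb]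
    refine ⟨MulAut.conj a • (R : Subgroup G), ?_, ?_⟩
    · obtain ⟨k, hk⟩ := IsPGroup.iff_card.1 R.isPGroup'
      exact IsPGroup.of_card (n := k) (by rw [CfsgLib.Coprime.card_conj_smul, hk])
    · rw [hQe, show P' = MulAut.conj a • P' from (hfix (P : Subgroup A) a ha).symm]
      ext g
      rw [SetLike.mem_coe, CfsgLib.Coprime.mem_conj_smul]
      constructor
      · intro hg
        obtain ⟨u, hu, v, hv, he⟩ := hR _ hg
        refine ⟨a * u * a⁻¹, ⟨u, hu, rfl⟩, a * v * a⁻¹, ⟨v, hv, rfl⟩, ?_⟩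
        calc a * u * a⁻¹ * (a * v * a⁻¹) = a * (u * v) * a⁻¹ := by group
          _ = g := by rw [← he]; group
      · rintro ⟨_, ⟨u, hu, rfl⟩, _, ⟨v, hv, rfl⟩, rfl⟩
        have := mul_mem (hPR hu) (hQR hv)
        simpa [mul_assoc] using this)
  have hQ0 : Q' ≠ ⊥ := by
    rw [hQ', ne_eq, Subgroup.map_eq_bot_iff_of_injective _ B.subtype_injective]
    exact Q.ne_bot_of_dvd_card hpb
  have hP0 : P' ≠ ⊥ := by
    rw [hP', ne_eq, Subgroup.map_eq_bot_iff_of_injective _ A.subtype_injective]
    exact P.ne_bot_of_dvd_card hpa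
  -- `N` normalises `A₁`
  haveI hKn : (Subgroup.normalClosure (Q' : Set G)).Normal := Subgroup.normalClosure_normal
  have hNK : N ≤ Subgroup.normalClosure (Q' : Set G) := by
    rcases hN.le_or_inf_eq_bot (Subgroup.normalClosure (Q' : Set G)) with h | h
    · exact h
    exfalso
    refine hQ0 (le_bot_iff.1 (le_of_le_of_eq (b := Subgroup.centralizer (N : Set G)) (fun q hq => Subgroup.mem_centralizer_iff.2 fun m (hm : m ∈ N) => ?_) hC))
    exact Subgroup.commute_of_normal_of_disjoint N _ hN.normal hKn (disjoint_iff.2 h) m q hm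
      (Subgroup.subset_normalClosure hq)
  have hKA : Subgroup.normalClosure (Q' : Set G) ≤ Subgroup.normalizer (A₁ : Set G) := by
    rw [Subgroup.normalClosure, Subgroup.closure_le]
    intro u hu
    obtain ⟨c, hc, hcon⟩ := Group.mem_conjugatesOfSet_iff.1 hu
    obtain ⟨g, rfl⟩ := isConj_iff.1 hcon
    exact hA₁n g ⟨c, hc, rfl⟩
  have hcore : (Cfsg.pCore p N).map N.subtype = ⊥ := by
    rw [CfsgLib.Base.map_pCore_eq_inf]
    rcases hN.eq_bot_or_eq (K := Cfsg.pCore p G ⊓ N) (Subgroup.normal_inf_normal _ _) inf_le_right with h | h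
    · exact h
    · exfalso
      have : IsPGroup p N :=
        (CfsgLib.Base.isPGroup_pCore p G).to_le (h ▸ inf_le_left)
      haveI := this.isNilpotent
      exact hNns inferInstance
  have hD : A₁ ⊓ N = ⊥ := by
    haveI : ((A₁ ⊓ N).subgroupOf N).Normal := by
      rw [Subgroup.inf_subgroupOf_right, Subgroup.normal_subgroupOf_iff_le_normalizer_inf,
        ← Subgroup.normal_subgroupOf_iff_le_normalizer inf_le_right]
      refine (Subgroup.normal_subgroupOf_iff_le_normalizer inf_le_right).2 fun m hm => ?_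
      refine CfsgLib.Coprime.le_normalizer_inf_inf (A := N) (hNK.trans hKA)
        Subgroup.le_normalizer hm
    refine le_bot_iff.1 (hcore ▸ fun x hx => ⟨⟨x, hx.2⟩,
      CfsgLib.Base.le_pCore (N := (A₁ ⊓ N).subgroupOf N)
        ((hA₁p.to_le inf_le_left).comap_subtype) hx, rfl⟩)
  refine hP0 (le_bot_iff.1 (le_of_le_of_eq (b := Subgroup.centralizer (N : Set G)) (fun a ha => Subgroup.mem_centralizer_iff.2 fun m (hm : m ∈ N) => ?_) hC))
  have h1 : m * a * m⁻¹ * a⁻¹ ∈ A₁ ⊓ N := by
    refine Subgroup.mem_inf.2 ⟨mul_mem ((Subgroup.mem_normalizer_iff.1 (hKA (hNK hm)) a).1 (hPA₁ ha))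
      (inv_mem (hPA₁ ha)), ?_⟩
    have := mul_mem hm (hN.normal.conj_mem _ (inv_mem hm) a)
    simpa [mul_assoc] using this
  rw [hD, Subgroup.mem_bot] at h1
  calc m * a = m * a * m⁻¹ * a⁻¹ * (a * m) := by group
    _ = a * m := by rw [h1, one_mul]

theorem exists_normal_ge_of_isNilpotent {G : Type u} [Group G] [Finite G]
    (hG : Group.IsNilpotent G) {B : Subgroup G} (hB : B ≠ ⊤) :
    ∃ N : Subgroup G, N.Normal ∧ N ≠ ⊤ ∧ B ≤ N := by
  haveI := hG
  obtain h | ⟨M, hM, hBM⟩ := eq_top_or_exists_le_coatom B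
  · exact absurd h hB
  · exact ⟨M, Subgroup.NormalizerCondition.normal_of_coatom M Group.normalizerCondition_of_isNilpotent hM, hM.1, hBM⟩

theorem exists_normal_ge_factor : ∀ (n : ℕ) {G : Type u} [Group G] [Finite G],
    Nat.card G = n → ∀ (A B : Subgroup G), Group.IsNilpotent A → Group.IsNilpotent B →
      (∀ g : G, ∃ a ∈ A, ∃ b ∈ B, g = a * b) → (A ≠ ⊤ ∨ B ≠ ⊤) →
      ∃ N : Subgroup G, N.Normal ∧ N ≠ ⊤ ∧ (A ≤ N ∨ B ≤ N) := by
  intro n
  induction n using Nat.strong_induction_on with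
  | _ n ih =>
  intro G _ _ hn A B hA hB hAB hproper
  subst hn
  have htopnil : ∀ {A : Subgroup G}, Group.IsNilpotent A → A = ⊤ → Group.IsNilpotent G := by
    intro A h e
    subst e
    haveI := h
    exact Group.nilpotent_of_mulEquiv Subgroup.topEquiv
  by_cases hnil : Group.IsNilpotent G
  · rcases hproper with h | h
    · obtain ⟨N, h1, h2, h3⟩ := exists_normal_ge_of_isNilpotent hnil h
      exact ⟨N, h1, h2, Or.inl h3⟩
    · obtain ⟨N, h1, h2, h3⟩ := exists_normal_ge_of_isNilpotent hnil h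
      exact ⟨N, h1, h2, Or.inr h3⟩
  have hAt : A ≠ ⊤ := fun e => hnil (htopnil hA e)
  have hBt : B ≠ ⊤ := fun e => hnil (htopnil hB e)
  haveI := isSolvable_of_nilpotent_mul _ rfl A B hA hB hAB
  by_cases hN : ∃ N : Subgroup G, CfsgLib.Base.IsMinimalNormal N ∧ (A ⊔ N ≠ ⊤ ∨ B ⊔ N ≠ ⊤)
  · obtain ⟨N, hN, hne⟩ := hN
    haveI := hN.normal
    set π := QuotientGroup.mk' N
    have hsurj : Function.Surjective π := QuotientGroup.mk'_surjective N
    have hmap : ∀ {A : Subgroup G}, A ⊔ N ≠ ⊤ → A.map π ≠ ⊤ := by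
      intro A h e
      refine h ?_
      rw [← QuotientGroup.ker_mk' N, ← Subgroup.comap_map_eq, e, Subgroup.comap_top]
    obtain ⟨M, hMn, hMt, hM⟩ := ih _ (by
        rw [N.card_eq_card_quotient_mul_card_subgroup]
        exact lt_mul_of_one_lt_right Nat.card_pos (N.one_lt_card_iff_ne_bot.2 hN.ne_bot)) rfl
      (A.map π) (B.map π) (by
        haveI := hA
        exact Group.nilpotent_of_surjective _ (π.subgroupMap_surjective A)) (by
        haveI := hB
        exact Group.nilpotent_of_surjective _ (π.subgroupMap_surjective B))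
      (fun q => by
        obtain ⟨g, rfl⟩ := hsurj q
        obtain ⟨a, ha, b, hb, rfl⟩ := hAB g
        exact ⟨_, Subgroup.mem_map_of_mem _ ha, _, Subgroup.mem_map_of_mem _ hb, map_mul _ _ _⟩)
      (hne.imp hmap hmap)
    refine ⟨M.comap π, hMn.comap π, fun e => hMt ?_, hM.imp Subgroup.map_le_iff_le_comap.1
      Subgroup.map_le_iff_le_comap.1⟩
    rw [← Subgroup.map_comap_eq_self_of_surjective hsurj M, e, Subgroup.map_top_of_surjective _ hsurj]
  push Not at hN
  exfalso
  haveI : Nontrivial G := by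
    by_contra h
    rw [not_nontrivial_iff_subsingleton] at h
    exact hAt (Subsingleton.elim _ _)
  obtain ⟨N, hNmin⟩ := CfsgLib.Base.exists_isMinimalNormal (G := G)
  haveI := hNmin.normal
  haveI hNc := hNmin.isMulCommutative inferInstance
  obtain ⟨p, hp, -, -, hNp⟩ := hNmin.exists_prime inferInstance
  haveI := Fact.mk hp
  have hcard : ∀ {A : Subgroup G}, A ≠ ⊤ → A ⊔ N = ⊤ →
      Nat.card A * Nat.card N = Nat.card G := by
    intro A hAt hsup
    have hinf : A ⊓ N = ⊥ := by
      refine (hNmin.eq_bot_or_eq (K := A ⊓ N) ?_ inf_le_right).resolve_right fun e => ?_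
      · refine Subgroup.normalizer_eq_top_iff.1 (top_le_iff.1 ?_)
        rw [← hsup]
        refine sup_le (CfsgLib.Coprime.le_normalizer_inf_inf Subgroup.le_normalizer
          (le_top.trans_eq (Subgroup.normalizer_eq_top_iff.2 hNmin.normal).symm))
          ((fun m hm => Subgroup.centralizer_le_normalizer _ (Subgroup.mem_centralizer_iff.2
            fun x hx => congrArg Subtype.val (hNc.is_comm.comm ⟨x, hx.2⟩ ⟨m, hm⟩))))
      · exact hAt (by rw [← hsup, sup_eq_left.2 (e ▸ inf_le_left)])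
    have := CfsgLib.Base.card_sup_mul_card_inf A N
    rw [hsup, hinf, Subgroup.card_top, Subgroup.card_bot, mul_one] at this
    exact this.symm
  have hcA := hcard hAt (hN N hNmin).1
  have hcB := hcard hBt (hN N hNmin).2
  have hAB' : Nat.card A = Nat.card B := Nat.eq_of_mul_eq_mul_right Nat.card_pos (hcA.trans hcB.symm)
  obtain ⟨k, hk⟩ := IsPGroup.iff_card.1 hNp
  obtain ⟨r, hr, hrp, hra⟩ : ∃ r : ℕ, r.Prime ∧ r ≠ p ∧ r ∣ Nat.card A := by
    by_contra hno
    push Not at hno
    refine hnil (IsPGroup.isNilpotent (p := p) (IsPGroup.of_card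
      (n := (Nat.card A).primeFactorsList.length + k) ?_))
    rw [← hcA, hk, pow_add]
    congr 1
    exact Nat.eq_prime_pow_of_unique_prime_dvd Nat.card_pos.ne'
      fun {r} hr hd => by_contra fun hne => hno r hr hne hd
  have hhall : ∀ {A : Subgroup G}, Group.IsNilpotent A → Nat.card A * Nat.card N = Nat.card G →
      (Nat.card (pDash A p)).Coprime (pDash A p).index := by
    intro A hA hc
    refine Nat.coprime_of_dvd fun q hq h1 h2 => ?_
    haveI := Fact.mk hq
    have hqp : q ≠ p := fun e => not_dvd_card_pDash hp hA (e ▸ h1)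
    rw [← Subgroup.relIndex_mul_index (pDash_le : pDash A p ≤ A)] at h2
    rcases (Nat.Prime.dvd_mul hq).1 h2 with h | h
    · rw [Subgroup.relIndex, pDash, Subgroup.subgroupOf,
        Subgroup.comap_map_eq_self_of_injective A.subtype_injective] at h
      obtain ⟨i, hi⟩ := CfsgLib.Transfer.exists_index_pResidual (p := p) (G := A)
      rw [hi] at h
      exact hqp ((Nat.prime_dvd_prime_iff_eq hq hp).1 (hq.dvd_of_dvd_pow h))
    · have hi : A.index = Nat.card N := by
        apply Nat.eq_of_mul_eq_mul_left (Nat.card_pos (α := A))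
        rw [A.card_mul_index, ← hc]
      rw [hi, hk] at h
      exact hqp ((Nat.prime_dvd_prime_iff_eq hq hp).1 (hq.dvd_of_dvd_pow h))
  have hnilD : ∀ {A : Subgroup G}, Group.IsNilpotent A → Group.IsNilpotent (pDash A p) :=
    fun h => CfsgLib.Base.isNilpotent_of_le pDash_le h
  have hdom : ∀ {A B : Subgroup G}, Group.IsNilpotent A → Group.IsNilpotent B →
      Nat.card A * Nat.card N = Nat.card G → Nat.card A = Nat.card B →
      ∃ x : G, pDash B p ≤ MulAut.conj x • pDash A p := by
    intro A B hA hB hc he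
    refine exists_conj_le_nilpotent_hall _ (pDash A p) (pDash B p) (Nat.lt_succ_self _) (hnilD hA)
      (hhall hA hc) fun q hq hd => ?_
    exact prime_dvd_card_pDash hq hp (fun e => not_dvd_card_pDash hp hB (e ▸ hd))
      (he ▸ hd.trans (Subgroup.card_dvd_of_le pDash_le))
  obtain ⟨x, hx⟩ := hdom hA hB hcA hAB'
  obtain ⟨y, hy⟩ := hdom hB hA hcB hAB'.symm
  have hxe : pDash B p = MulAut.conj x • pDash A p := by
    refine Subgroup.eq_of_le_of_card_ge hx ?_
    rw [CfsgLib.Coprime.card_conj_smul]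
    exact (Subgroup.card_le_of_le hy).trans_eq (CfsgLib.Coprime.card_conj_smul y _)
  have hHn : (pDash B p).Normal := by
    refine Subgroup.normalizer_eq_top_iff.1 (top_le_iff.1 fun g _ => ?_)
    obtain ⟨a, ha, b, hb, rfl⟩ := CfsgLib.SolvStruct.factor_conj hAB x 1 g
    rw [map_one, one_smul] at hb
    refine mul_mem ?_ (le_normalizer_pDash hb)
    rw [CfsgLib.Coprime.mem_normalizer_iff_conj_smul, hxe, smul_smul, ← map_mul]
    rw [CfsgLib.Coprime.mem_conj_smul] at ha
    rw [show a * x = x * (x⁻¹ * a * x) by group, map_mul, mul_smul,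
      CfsgLib.Coprime.mem_normalizer_iff_conj_smul.1 (le_normalizer_pDash ha)]
  haveI := hHn
  obtain ⟨L, hLH, hL⟩ := CfsgLib.Base.exists_isMinimalNormal_le
    (pDash_ne_bot hr hp hrp (hAB' ▸ hra) : pDash B p ≠ ⊥)
  exact hBt (by rw [← (hN L hL).2, sup_eq_left.2 (hLH.trans pDash_le)])

end CfsgLib.SolvStruct.KW
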