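import Cfsg.Agent.Lib.SolvStruct.KegelWielandt.Count
import Cfsg.Agent.Lib.Chars.Burnside
import Cfsg.Agent.Lib.FgsB.PRegularIndex

/-!
# Coprime products of nilpotent groups are solvable
-/

set_option autoImplicit false
set_option linter.style.haveILetI false

open scoped Pointwise

namespace CfsgLib.SolvStruct.KW

universe u

/-- A normal subgroup inherits a coprime factorisation. -/
theorem factor_of_normal {G : Type u} [Group G] [Finite G] {A B : Subgroup G}
    (hcop : (Nat.card A).Coprime (Nat.card B)) (hAB : ∀ g : G, ∃ a ∈ A, ∃ b ∈ B, g = a * b)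
    (N : Subgroup G) [N.Normal] :
    ∀ g ∈ N, ∃ a ∈ N ⊓ A, ∃ b ∈ N ⊓ B, g = a * b := by
  have hdis : A ⊓ B = ⊥ := CfsgLib.Coprime.inf_eq_bot_of_coprime hcop
  have hG : Nat.card G = Nat.card A * Nat.card B := by
    rw [← Nat.card_prod]
    refine (Nat.card_congr (Equiv.ofBijective (fun x : A × B => (x.1 : G) * x.2) ⟨?_, ?_⟩)).symm
    · intro x y hxy
      exact Subgroup.mul_injective_of_disjoint (disjoint_iff.2 hdis) hxy
    · intro g
      obtain ⟨a, ha, b, hb, rfl⟩ := hAB g
      exact ⟨(⟨a, ha⟩, ⟨b, hb⟩), rfl⟩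
  have hiA : A.index = Nat.card B := by
    apply Nat.eq_of_mul_eq_mul_left (Nat.card_pos (α := A))
    rw [A.card_mul_index, hG]
  have hiB : B.index = Nat.card A := by
    apply Nat.eq_of_mul_eq_mul_left (Nat.card_pos (α := B))
    rw [B.card_mul_index, hG, mul_comm]
  have key : ∀ C : Subgroup G, Nat.card (N ⊓ C : Subgroup G) * C.relIndex N = Nat.card N := by
    intro C
    rw [← Subgroup.inf_relIndex_left N C, ← Subgroup.relIndex_bot_left (N ⊓ C),
      ← Subgroup.relIndex_bot_left N]
    exact Subgroup.relIndex_mul_relIndex _ _ _ bot_le inf_le_left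
  have h1 : A.relIndex N ∣ Nat.card B :=
    hiA ▸ CfsgLib.FgsB.relIndex_dvd_index_of_normal_right A N
  have h2 : B.relIndex N ∣ Nat.card A :=
    hiB ▸ CfsgLib.FgsB.relIndex_dvd_index_of_normal_right B N
  have hB1 : Nat.card (N ⊓ B : Subgroup G) ∣ A.relIndex N := by
    refine Nat.Coprime.dvd_of_dvd_mul_left ?_ (Dvd.intro _ ((key B).trans (key A).symm))
    exact (hcop.coprime_dvd_left (Subgroup.card_dvd_of_le inf_le_right)).symm.coprime_dvd_left
      (Subgroup.card_dvd_of_le inf_le_right)
  have hA1 : A.relIndex N ∣ Nat.card (N ⊓ B : Subgroup G) := by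
    refine Nat.Coprime.dvd_of_dvd_mul_right ?_ (Dvd.intro_left _ ((key A).trans (key B).symm))
    exact Nat.Coprime.coprime_dvd_right h2 (hcop.symm.coprime_dvd_left h1)
  intro g hg
  set A' := (N ⊓ A).subgroupOf N with hA'
  set B' := (N ⊓ B).subgroupOf N with hB'
  have hc : Subgroup.IsComplement' A' B' := by
    refine Subgroup.isComplement'_of_card_mul_and_disjoint ?_ (disjoint_iff.2 ?_)
    · rw [hA', hB', Nat.card_congr (Subgroup.subgroupOfEquivOfLe inf_le_left).toEquiv,
        Nat.card_congr (Subgroup.subgroupOfEquivOfLe inf_le_left).toEquiv,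
        Nat.dvd_antisymm hB1 hA1]
      exact key A
    · rw [Subgroup.eq_bot_iff_forall]
      intro x hx
      have : (x : G) ∈ A ⊓ B := ⟨hx.1.2, hx.2.2⟩
      rw [hdis, Subgroup.mem_bot] at this
      exact Subtype.ext this
  obtain ⟨⟨a, b⟩, hab⟩ := hc.2 ⟨g, hg⟩
  exact ⟨_, a.2, _, b.2, (congrArg Subtype.val hab).symm⟩

/-- A finite product of two nilpotent subgroups of coprime order is solvable. -/
theorem isSolvable_of_coprime_nilpotent : ∀ (n : ℕ) {G : Type u} [Group G] [Finite G],
    Nat.card G = n → ∀ (A B : Subgroup G), Group.IsNilpotent A → Group.IsNilpotent B →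
      (Nat.card A).Coprime (Nat.card B) → (∀ g : G, ∃ a ∈ A, ∃ b ∈ B, g = a * b) →
      Group.IsSolvable G := by
  intro n
  induction n using Nat.strong_induction_on with
  | _ n ih =>
  intro G _ _ hn A B hA hB hcop hAB
  subst hn
  have hsub : ∀ L : Subgroup G, L ≠ ⊤ → (∀ g ∈ L, ∃ a ∈ L ⊓ A, ∃ b ∈ L ⊓ B, g = a * b) →
      Group.IsSolvable L := by
    intro L hL hf
    refine ih _ (lt_of_le_of_ne L.card_le_card_group fun e => hL (L.card_eq_iff_eq_top.1 e)) rfl
      ((L ⊓ A).subgroupOf L) ((L ⊓ B).subgroupOf L) ?_ ?_ ?_ ?_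
    · haveI := CfsgLib.Base.isNilpotent_of_le (inf_le_right : L ⊓ A ≤ A) hA
      exact Group.nilpotent_of_mulEquiv (Subgroup.subgroupOfEquivOfLe inf_le_left).symm
    · haveI := CfsgLib.Base.isNilpotent_of_le (inf_le_right : L ⊓ B ≤ B) hB
      exact Group.nilpotent_of_mulEquiv (Subgroup.subgroupOfEquivOfLe inf_le_left).symm
    · rw [Nat.card_congr (Subgroup.subgroupOfEquivOfLe inf_le_left).toEquiv,
        Nat.card_congr (Subgroup.subgroupOfEquivOfLe inf_le_left).toEquiv]
      exact (hcop.coprime_dvd_left (Subgroup.card_dvd_of_le inf_le_right)).coprime_dvd_right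
        (Subgroup.card_dvd_of_le inf_le_right)
    · rintro ⟨g, hg⟩
      obtain ⟨a, ha, b, hb, he⟩ := hf g hg
      exact ⟨⟨a, ha.1⟩, ha, ⟨b, hb.1⟩, hb, Subtype.ext he⟩
  by_cases hN : ∃ N : Subgroup G, N.Normal ∧ N ≠ ⊥ ∧ N ≠ ⊤
  · obtain ⟨N, hNn, hNb, hNt⟩ := hN
    haveI := hNn
    haveI : Group.IsSolvable N := hsub N hNt (factor_of_normal hcop hAB N)
    have hlt : Nat.card (G ⧸ N) < Nat.card G := by
      rw [N.card_eq_card_quotient_mul_card_subgroup]
      exact lt_mul_of_one_lt_right Nat.card_pos (N.one_lt_card_iff_ne_bot.2 hNb)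
    haveI := hA
    haveI := hB
    haveI : Group.IsSolvable (G ⧸ N) := by
      refine ih _ hlt rfl (A.map (QuotientGroup.mk' N)) (B.map (QuotientGroup.mk' N)) ?_ ?_ ?_ ?_
      · exact Group.nilpotent_of_surjective _ ((QuotientGroup.mk' N).subgroupMap_surjective A)
      · exact Group.nilpotent_of_surjective _ ((QuotientGroup.mk' N).subgroupMap_surjective B)
      · exact (hcop.coprime_dvd_left (Subgroup.card_map_dvd A _)).coprime_dvd_right
          (Subgroup.card_map_dvd B _)
      · intro q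
        obtain ⟨g, rfl⟩ := QuotientGroup.mk'_surjective N q
        obtain ⟨a, ha, b, hb, rfl⟩ := hAB g
        exact ⟨_, Subgroup.mem_map_of_mem _ ha, _, Subgroup.mem_map_of_mem _ hb, map_mul _ _ _⟩
    exact solvable_of_ker_le_range N.subtype (QuotientGroup.mk' N) (by simp)
  push Not at hN
  by_contra hns
  haveI : Nontrivial G := by
    by_contra hnt
    rw [not_nontrivial_iff_subsingleton] at hnt
    exact hns inferInstance
  haveI hs : IsSimpleGroup G := ⟨fun N hN' => or_iff_not_imp_left.2 fun hb => hN N hN' hb⟩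
  have hcomm : ∀ {H : Subgroup G}, H = ⊤ → Group.IsNilpotent H → False := fun hH hn => hns (by
    subst hH
    haveI := hn
    exact solvable_of_surjective (f := (Subgroup.topEquiv (G := G)).toMonoidHom)
      Subgroup.topEquiv.surjective)
  have hne : ∀ {A B : Subgroup G}, (∀ g : G, ∃ a ∈ A, ∃ b ∈ B, g = a * b) →
      Group.IsNilpotent A → B ≠ ⊥ := by
    intro A B h hA e
    refine hcomm (top_le_iff.1 fun g _ => ?_) hA
    obtain ⟨a, ha, b, hb, rfl⟩ := h g
    rw [e, Subgroup.mem_bot] at hb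
    rwa [hb, mul_one]
  have hprimes : ∀ {A B : Subgroup G}, Group.IsNilpotent A → Group.IsNilpotent B →
      (Nat.card A).Coprime (Nat.card B) → (∀ g : G, ∃ a ∈ A, ∃ b ∈ B, g = a * b) →
      ∀ p : ℕ, p.Prime → ∃ r : ℕ, r.Prime ∧ r ≠ p ∧ r ∣ Nat.card A := by
    intro A B hA hB hcop hAB p hp
    by_contra hno
    push Not at hno
    obtain ⟨q, hq, hqd⟩ := Nat.exists_prime_and_dvd
      (fun e => hne hAB hA (Subgroup.card_eq_one.1 e))
    obtain ⟨w, hw, -⟩ := exists_central hB hq hqd
    have hBC : B ≤ Subgroup.centralizer ({w} : Set G) := fun x hx =>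
      Subgroup.mem_centralizer_singleton_iff.2 (hw.2.2 x hx)
    have hi : B.index ∣ Nat.card A := by
      refine Nat.Coprime.dvd_of_dvd_mul_right (n := 1) (Nat.coprime_one_right _) ?_
      rw [mul_one]
      have hdvd : Nat.card G ∣ Nat.card A * Nat.card B := by
        have hG : Nat.card G = Nat.card A * Nat.card B := by
          rw [← Nat.card_prod]
          refine (Nat.card_congr (Equiv.ofBijective (fun x : A × B => (x.1 : G) * x.2) ⟨?_, ?_⟩)).symm
          · intro x y hxy
            exact Subgroup.mul_injective_of_disjoint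
              (disjoint_iff.2 (CfsgLib.Coprime.inf_eq_bot_of_coprime hcop)) hxy
          · intro g
            obtain ⟨a, ha, b, hb, rfl⟩ := hAB g
            exact ⟨(⟨a, ha⟩, ⟨b, hb⟩), rfl⟩
        exact dvd_of_eq hG
      rw [← B.card_mul_index, mul_comm (Nat.card A)] at hdvd
      exact Nat.dvd_of_mul_dvd_mul_left Nat.card_pos hdvd
    have hd : (Subgroup.centralizer ({w} : Set G)).index ∣ Nat.card A :=
      (Subgroup.index_dvd_of_le hBC).trans hi
    have hP := CfsgLib.Chars.prime_card_of_class_prime_pow p _ hp w hw.2.1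
      (Nat.eq_prime_pow_of_unique_prime_dvd Subgroup.index_ne_zero_of_finite
        fun {r} hr hrd => by
          by_contra hrp
          exact hno r hr hrp (hrd.trans hd))
    haveI := Fact.mk hP
    haveI : IsCyclic G := isCyclic_of_prime_card rfl
    letI : CommGroup G := IsCyclic.commGroup
    exact hns inferInstance
  refine Config.impossible (A := A) (B := B)
    ⟨hs, ?_, hA, hB, hcop, hAB, hprimes hA hB hcop hAB,
      hprimes hB hA hcop.symm (factor_symm hAB), hsub⟩
  refine ((inferInstance : (Subgroup.center G).Normal).eq_bot_or_eq_top).resolve_right fun h => hns ?_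
  exact isSolvable_of_comm fun a b => Subgroup.mem_center_iff.1 (h ▸ Subgroup.mem_top b) a

end CfsgLib.SolvStruct.KW
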