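import Cfsg.Agent.Lib.SolvStruct.KegelWielandt.Pairs
import Cfsg.Agent.Lib.Coprime.Action
import Cfsg.Agent.Lib.Transfer.Fusion

/-!
# A simple coprime product of nilpotent groups: both factors are trivial intersection subgroups
-/

set_option autoImplicit false
set_option linter.style.haveILetI false
set_option linter.unusedSectionVars false

open scoped Pointwise

namespace CfsgLib.SolvStruct.KW

open CfsgLib.Coprime (mem_conj_smul card_conj_smul)

variable {G : Type*} [Group G] [Finite G] {A B : Subgroup G}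

/-- `z` is a nontrivial central element of `A`. -/
def Central (A : Subgroup G) (z : G) : Prop :=
  z ∈ A ∧ z ≠ 1 ∧ ∀ a ∈ A, a * z = z * a

/-- `K` has a nilpotent Hall subgroup for the primes of `A` inside a conjugate of `A`. -/
def HallA (A K : Subgroup G) : Prop :=
  ∃ T : Subgroup G, T ≤ K ∧ (∃ k : G, T ≤ MulAut.conj k • A) ∧
    ∀ r : ℕ, r.Prime → r ∣ Nat.card A → ¬ r ∣ T.relIndex K

theorem mem_centralizer_singleton_conj {g x y : G} :
    g * y * g⁻¹ ∈ Subgroup.centralizer ({g * x * g⁻¹} : Set G) ↔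
      y ∈ Subgroup.centralizer ({x} : Set G) := by
  simp only [Subgroup.mem_centralizer_singleton_iff]
  constructor <;> intro h
  · apply mul_left_cancel (a := g)
    apply mul_right_cancel (b := g⁻¹)
    calc g * (y * x) * g⁻¹ = g * y * g⁻¹ * (g * x * g⁻¹) := by group
      _ = _ := by rw [h]; group
  · calc g * y * g⁻¹ * (g * x * g⁻¹) = g * (y * x) * g⁻¹ := by group
      _ = _ := by rw [h]; group

theorem exists_central {A : Subgroup G} (hA : Group.IsNilpotent A) {p : ℕ} (hp : p.Prime)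
    (hd : p ∣ Nat.card A) : ∃ z, Central A z ∧ orderOf z = p := by
  obtain ⟨z, hz, hord, hc⟩ := exists_central_orderOf hA hp hd
  exact ⟨z, ⟨hz, fun e => hp.ne_one (by rw [← hord, e, orderOf_one]), hc⟩, hord⟩

namespace Config

theorem exists_central_B (c : Config A B) : ∃ w, Central B w := by
  obtain ⟨r, hr, -, hd⟩ := c.primesB 2 Nat.prime_two
  obtain ⟨w, hw, -⟩ := exists_central c.nilB hr hd
  exact ⟨w, hw⟩

theorem exists_central_A (c : Config A B) : ∃ z, Central A z := c.symm.exists_central_B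

theorem centralizer_ne_top (c : Config A B) {x : G} (hx : x ≠ 1) :
    Subgroup.centralizer ({x} : Set G) ≠ ⊤ := fun h => hx (by
  rw [← Subgroup.mem_bot, ← c.centerless, Subgroup.mem_center_iff]
  exact fun g => Subgroup.mem_centralizer_singleton_iff.1 (h ▸ Subgroup.mem_top g))

/-- No conjugate of a central element of `A` normalises a nontrivial `q`-group, `q ∣ |B|`. -/
theorem no_norm (c : Config A B) {z : G} (hz : Central A z) {q : ℕ} (hq : q.Prime)
    (hqb : q ∣ Nat.card B) {R : Subgroup G} (hR : R ≠ ⊥) (hRq : IsPGroup q R) (g : G)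
    (hg : g * z * g⁻¹ ∈ Subgroup.normalizer (R : Set G)) : False := by
  haveI := Fact.mk hq
  obtain ⟨h, hh⟩ := exists_conj_le_nilpotent_hall _ B R (Nat.lt_succ_self _) c.nilB c.symm.hall
    fun r hr hd => by
      obtain ⟨n, hn⟩ := IsPGroup.iff_card.1 hRq
      rw [(Nat.prime_dvd_prime_iff_eq hr hq).1 (hr.dvd_of_dvd_pow (hn ▸ hd))]
      exact hqb
  obtain ⟨s, hs, hsq, hsb⟩ := c.primesB q hq
  have hRtop : R ≠ ⊤ := fun e => by
    obtain ⟨n, hn⟩ := IsPGroup.iff_card.1 hRq
    have h1 : s ∣ Nat.card R := by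
      rw [e, Subgroup.card_top]
      exact hsb.trans (Subgroup.card_subgroup_dvd_card B)
    exact hsq ((Nat.prime_dvd_prime_iff_eq hs hq).1 (hs.dvd_of_dvd_pow (hn ▸ h1)))
  refine c.no_proper (nrm_zpowers hz.1 hz.2.2) (nrm_pDash B q)
    (fun e => hz.2.1 (Subgroup.zpowers_eq_bot.1 e)) (pDash_ne_bot hs hq hsq hsb)
    (c.normalizer_ne_top hR hRtop) (x := g) (y := h) ?_ ?_
  · rintro _ ⟨_, ⟨i, rfl⟩, rfl⟩
    show g * z ^ i * g⁻¹ ∈ _
    rw [← conj_zpow]
    exact zpow_mem hg i
  · set R' := MulAut.conj h⁻¹ • R with hR'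
    have hR'B : R' ≤ B := by
      rw [hR', map_inv, Subgroup.pointwise_smul_subset_iff, inv_inv]
      exact hh
    have hR'q : IsPGroup q R' := by
      obtain ⟨n, hn⟩ := IsPGroup.iff_card.1 hRq
      exact IsPGroup.of_card (n := n) (by rw [hR', card_conj_smul, hn])
    intro y hy
    rw [mem_conj_smul] at hy
    refine Subgroup.centralizer_le_normalizer _ (Subgroup.mem_centralizer_iff.2 fun r hr => ?_)
    have hr' : h⁻¹ * r * h ∈ R' := by
      rw [hR', mem_conj_smul, inv_inv]
      simpa [mul_assoc] using hr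
    have h2 := Subgroup.mem_centralizer_iff.1
      (pDash_le_centralizer hq c.nilB hR'B hR'q hy) _ hr'
    calc r * y = h * ((h⁻¹ * r * h) * (h⁻¹ * y * h)) * h⁻¹ := by group
      _ = h * ((h⁻¹ * y * h) * (h⁻¹ * r * h)) * h⁻¹ := by rw [h2]
      _ = y * r := by group

/-- The centraliser of a central element of `A` is contained in `A`. -/
theorem centralizer_central_le (c : Config A B) {z : G} (hz : Central A z) :
    Subgroup.centralizer ({z} : Set G) ≤ A := by
  intro x hx
  obtain ⟨a, ha, b, hb, rfl⟩ := c.fac x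
  have hac : a ∈ Subgroup.centralizer ({z} : Set G) :=
    Subgroup.mem_centralizer_singleton_iff.2 (hz.2.2 a ha)
  have hbc : b * z = z * b :=
    Subgroup.mem_centralizer_singleton_iff.1 ((Subgroup.mul_mem_cancel_left _ hac).1 hx)
  by_cases hb1 : b = 1
  · rw [hb1, mul_one]; exact ha
  exfalso
  obtain ⟨q, hq, hqd⟩ := Nat.exists_prime_and_dvd (fun e => hb1 (orderOf_eq_one_iff.1 e))
  obtain ⟨m, hm⟩ := hqd
  have hord : orderOf (b ^ m) = q := by
    rw [orderOf_pow_of_dvd (fun e => by rw [e, mul_zero] at hm; exact (orderOf_pos b).ne' hm)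
      (Dvd.intro_left q hm.symm), hm, Nat.mul_div_left q (Nat.pos_of_ne_zero fun e => by
        rw [e, mul_zero] at hm; exact (orderOf_pos b).ne' hm)]
  refine c.no_norm hz hq
    (hord ▸ (orderOf_pow_dvd m).trans (Subgroup.orderOf_dvd_natCard _ hb))
    (R := Subgroup.zpowers (b ^ m)) (fun e => ?_)
    (IsPGroup.of_card (n := 1) (by rw [Nat.card_zpowers, hord, pow_one])) 1 ?_
  · rw [Subgroup.zpowers_eq_bot] at e
    rw [e, orderOf_one] at hord
    exact hq.ne_one hord.symm
  · rw [one_mul, inv_one, mul_one]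
    refine Subgroup.centralizer_le_normalizer _ (Subgroup.mem_centralizer_iff.2 fun r hr => ?_)
    obtain ⟨i, rfl⟩ := Subgroup.mem_zpowers_iff.1 (hr : r ∈ Subgroup.zpowers (b ^ m))
    exact ((Commute.pow_left hbc m).zpow_left i).eq

/-- A central element of `A` lies in no other conjugate of `A`. -/
theorem conj_eq_of_central_mem (c : Config A B) {z : G} (hz : Central A z) {g : G}
    (hg : z ∈ MulAut.conj g • A) : MulAut.conj g • A = A := by
  refine (Subgroup.eq_of_le_of_card_ge ?_ (card_conj_smul g A).le).symm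
  have key : ∀ p : ℕ, p.Prime → p ∣ Nat.card A → pDash A p ≤ MulAut.conj g • A := by
    intro p hp hpa y hy
    obtain ⟨z', hz', hord⟩ := exists_central c.nilA hp hpa
    have h1 : g * z' * g⁻¹ ∈ A := by
      refine c.centralizer_central_le hz (Subgroup.mem_centralizer_singleton_iff.2 ?_)
      rw [mem_conj_smul] at hg
      have h := hz'.2.2 _ hg
      calc g * z' * g⁻¹ * z = g * (z' * (g⁻¹ * z * g)) * g⁻¹ := by group
        _ = g * ((g⁻¹ * z * g) * z') * g⁻¹ := by rw [h]
        _ = _ := by group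
    have h2 := commute_pDash hp c.nilA h1 ⟨1, by
      rw [pow_one, ← hord]
      exact (MulAut.conj g).orderOf_eq z'⟩ hy
    rw [mem_conj_smul]
    refine c.centralizer_central_le hz' ?_
    rw [← mem_centralizer_singleton_conj (g := g)]
    rw [show g * (g⁻¹ * y * g) * g⁻¹ = y by group, Subgroup.mem_centralizer_singleton_iff]
    exact h2.symm
  obtain ⟨p, hp, -, hpa⟩ := c.primesA 2 Nat.prime_two
  obtain ⟨r, hr, hrp, hra⟩ := c.primesA p hp
  exact le_of_pDash_le hp hr hrp (key p hp hpa) (key r hr hra)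

theorem conj_eq_of_conj_central_mem (c : Config A B) {z : G} (hz : Central A z) {g h : G}
    (hgh : g * z * g⁻¹ ∈ MulAut.conj h • A) : MulAut.conj h • A = MulAut.conj g • A := by
  have h1 : z ∈ MulAut.conj (g⁻¹ * h) • A := by
    rw [mem_conj_smul] at hgh ⊢
    simpa [mul_assoc] using hgh
  have h2 := congrArg (fun S => MulAut.conj g • S) (c.conj_eq_of_central_mem hz h1)
  simpa [smul_smul, ← map_mul] using h2

theorem exists_conj_le_of_hallA (c : Config A B) {K T : Subgroup G} (hTK : T ≤ K) {k : G}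
    (hTk : T ≤ MulAut.conj k • A)
    (hT : ∀ r : ℕ, r.Prime → r ∣ Nat.card A → ¬ r ∣ T.relIndex K) {U : Subgroup G} (hUK : U ≤ K)
    (hU : ∀ r : ℕ, r.Prime → r ∣ Nat.card U → r ∣ Nat.card A) :
    ∃ x ∈ K, U ≤ MulAut.conj x • T := by
  have hcT : Nat.card (T.subgroupOf K) = Nat.card T :=
    Nat.card_congr (Subgroup.subgroupOfEquivOfLe hTK).toEquiv
  have hTA : Nat.card T ∣ Nat.card A := by
    rw [← card_conj_smul k A]
    exact Subgroup.card_dvd_of_le hTk
  haveI := isNilpotent_of_nilpotent_hall c.nilA c.hall (K := T)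
    fun r _ hd => hd.trans hTA
  have hTn : Group.IsNilpotent (T.subgroupOf K) :=
    Group.nilpotent_of_mulEquiv (Subgroup.subgroupOfEquivOfLe hTK).symm
  obtain ⟨⟨x, hx⟩, hle⟩ := exists_conj_le_nilpotent_hall _ (T.subgroupOf K) (U.subgroupOf K)
    (Nat.lt_succ_self _) hTn (Nat.coprime_of_dvd fun r hr h1 h2 => hT r hr
      ((hcT ▸ h1).trans hTA) h2) (fun r hr hd => by
      rw [hcT]
      have hra : r ∣ Nat.card A := hU r hr (by
        rwa [Nat.card_congr (Subgroup.subgroupOfEquivOfLe hUK).toEquiv] at hd)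
      have hmul : Nat.card T * T.relIndex K = Nat.card K := by
        rw [← Subgroup.relIndex_bot_left T, ← Subgroup.relIndex_bot_left K]
        exact Subgroup.relIndex_mul_relIndex _ _ _ bot_le hTK
      exact ((Nat.Prime.dvd_mul hr).1 (hmul ▸ hd.trans (Subgroup.card_subgroup_dvd_card _))
        ).resolve_right (hT r hr hra))
  refine ⟨x, hx, fun u hu => ?_⟩
  have h1 := hle (show (⟨u, hUK hu⟩ : K) ∈ U.subgroupOf K from hu)
  rw [mem_conj_smul] at h1 ⊢
  exact h1

theorem hallA_top (c : Config A B) : HallA A (⊤ : Subgroup G) :=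
  ⟨A, le_top, ⟨1, by rw [map_one, one_smul]⟩, fun r hr hra hd => hr.ne_one
    (Nat.eq_one_of_dvd_coprimes c.hall hra (Subgroup.relIndex_top_right A ▸ hd))⟩

theorem hallA_centralizer (c : Config A B) {K : Subgroup G} (hK : HallA A K) {y : G} (hy : y ∈ K)
    {p : ℕ} (hp : p.Prime) (hpa : p ∣ Nat.card A) (hyp : ∃ k, orderOf y = p ^ k) :
    HallA A (K ⊓ Subgroup.centralizer ({y} : Set G)) := by
  haveI := Fact.mk hp
  obtain ⟨n, hn⟩ := hyp
  set K' := K ⊓ Subgroup.centralizer ({y} : Set G) with hK'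
  obtain ⟨P⟩ : Nonempty (Sylow p K') := inferInstance
  set U := (P : Subgroup K').map K'.subtype with hU
  have hUp : IsPGroup p U := P.isPGroup'.map _
  have hyU : y ∈ U := by
    have hym : y ∈ K' := ⟨hy, Subgroup.mem_centralizer_singleton_iff.2 rfl⟩
    refine ⟨⟨y, hym⟩, ?_, rfl⟩
    haveI : (Subgroup.zpowers (⟨y, hym⟩ : K')).Normal :=
      CfsgLib.Base.normal_of_le_center (Subgroup.zpowers_le.2 (Subgroup.mem_center_iff.2
        fun g => Subtype.ext (Subgroup.mem_centralizer_singleton_iff.1 g.2.2)))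
    refine (CfsgLib.Base.le_pCore (IsPGroup.of_card (n := n) ?_)).trans
      (CfsgLib.Base.pCore_le_sylow P) (Subgroup.mem_zpowers _)
    rw [Nat.card_zpowers, ← hn, ← Subgroup.orderOf_coe]
  obtain ⟨T, hTK, ⟨k, hTk⟩, hT⟩ := hK
  obtain ⟨x, hx, hUT⟩ := c.exists_conj_le_of_hallA hTK hTk hT
    ((Subgroup.map_subtype_le _).trans inf_le_left : U ≤ K) fun r hr hd => by
      obtain ⟨m, hm⟩ := IsPGroup.iff_card.1 hUp
      rw [(Nat.prime_dvd_prime_iff_eq hr hp).1 (hr.dvd_of_dvd_pow (hm ▸ hd))]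
      exact hpa
  set T₁ := MulAut.conj x • T with hT₁
  have hT₁A : T₁ ≤ MulAut.conj (x * k) • A := by
    rw [map_mul, mul_smul]
    exact Subgroup.pointwise_smul_le_pointwise_smul_iff.2 hTk
  have hT₁K : T₁ ≤ K := by
    intro u hu
    rw [hT₁, mem_conj_smul] at hu
    have := mul_mem (mul_mem hx (hTK hu)) (inv_mem hx)
    simpa [mul_assoc] using this
  refine ⟨T₁ ⊓ Subgroup.centralizer ({y} : Set G), inf_le_inf_right _ hT₁K,
    ⟨x * k, inf_le_left.trans hT₁A⟩, fun r hr hra hd => ?_⟩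
  haveI := Fact.mk hr
  by_cases hrp : r = p
  · subst hrp
    refine P.not_dvd_index ?_
    have hle : U ≤ T₁ ⊓ Subgroup.centralizer ({y} : Set G) :=
      le_inf hUT ((Subgroup.map_subtype_le _).trans inf_le_right)
    refine hd.trans (dvd_trans (Dvd.intro_left _ (Subgroup.relIndex_mul_relIndex _ _ _ hle
      (inf_le_inf_right _ hT₁K))) (dvd_of_eq ?_))
    rw [hU, Subgroup.relIndex, Subgroup.subgroupOf,
      Subgroup.comap_map_eq_self_of_injective K'.subtype_injective]
  · obtain ⟨S⟩ : Nonempty (Sylow r T₁) := inferInstance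
    set V := (S : Subgroup T₁).map T₁.subtype with hV
    have hVc : V ≤ T₁ ⊓ Subgroup.centralizer ({y} : Set G) := by
      refine le_inf (Subgroup.map_subtype_le _) fun v hv => ?_
      have hV' : MulAut.conj (x * k)⁻¹ • V ≤ A := by
        rw [map_inv, Subgroup.pointwise_smul_subset_iff, inv_inv]
        exact (Subgroup.map_subtype_le _).trans hT₁A
      have hy' : (x * k)⁻¹ * y * (x * k) ∈ A := mem_conj_smul.1 (hT₁A (hUT hyU))
      obtain ⟨m, hm⟩ := IsPGroup.iff_orderOf.1 (S.isPGroup'.map T₁.subtype) ⟨v, hv⟩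
      rw [← Subgroup.orderOf_coe] at hm
      have hv' : (x * k)⁻¹ * v * (x * k) ∈ pDash A p := by
        refine mem_pDash (hV' ?_) ?_
        · rw [mem_conj_smul, inv_inv]
          simpa [mul_assoc] using hv
        · rw [show (x * k)⁻¹ * v * (x * k) = MulAut.conj (x * k)⁻¹ v by rw [MulAut.conj_apply, inv_inv],
            MulEquiv.orderOf_eq, hm]
          exact ((Nat.coprime_primes hr hp).2 hrp).pow_left m
      have hcomm := commute_pDash hp c.nilA hy' ⟨n, by
        rw [show (x * k)⁻¹ * y * (x * k) = MulAut.conj (x * k)⁻¹ y by rw [MulAut.conj_apply, inv_inv],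
          MulEquiv.orderOf_eq, hn]⟩ hv'
      rw [Subgroup.mem_centralizer_singleton_iff]
      calc v * y = (x * k) * ((x * k)⁻¹ * v * (x * k) * ((x * k)⁻¹ * y * (x * k))) * (x * k)⁻¹ := by
            group
        _ = (x * k) * ((x * k)⁻¹ * y * (x * k) * ((x * k)⁻¹ * v * (x * k))) * (x * k)⁻¹ := by
            rw [hcomm]
        _ = y * v := by group
    have hd1 : r ∣ V.relIndex K := by
      refine hd.trans ?_
      refine Dvd.dvd.trans (Dvd.intro_left (V.relIndex (T₁ ⊓ Subgroup.centralizer ({y} : Set G)))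
        (Subgroup.relIndex_mul_relIndex _ _ _ hVc (inf_le_inf_right _ hT₁K))) ?_
      exact Dvd.intro _ (Subgroup.relIndex_mul_relIndex _ _ _
        (hVc.trans (inf_le_inf_right _ hT₁K)) inf_le_left)
    rw [← Subgroup.relIndex_mul_relIndex V T₁ K (Subgroup.map_subtype_le _) hT₁K] at hd1
    rcases (Nat.Prime.dvd_mul hr).1 hd1 with h | h
    · rw [hV, Subgroup.relIndex, Subgroup.subgroupOf,
        Subgroup.comap_map_eq_self_of_injective T₁.subtype_injective] at h
      exact S.not_dvd_index h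
    · refine hT r hr hra ?_
      have he : T₁.relIndex K = T.relIndex K := by
        have hKx : MulAut.conj x • K = K := Subgroup.conj_smul_eq_self_of_mem hx
        conv_lhs => rw [← hKx, hT₁]
        exact Subgroup.relIndex_map_map_of_injective T K (MulAut.conj x).injective
      rwa [← he]

/-- Conjugates of `A` seen by a subgroup with a Hall subgroup are conjugate inside it. -/
theorem exists_conj_in_hallA (c : Config A B) {K : Subgroup G} (hK : HallA A K) {z : G}
    (hz : Central A z) {g h : G} (hg : g * z * g⁻¹ ∈ K) (hh : h * z * h⁻¹ ∈ K) :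
    ∃ k ∈ K, MulAut.conj (k * g) • A = MulAut.conj h • A := by
  have hpi : ∀ g : G, ∀ r : ℕ, r.Prime →
      r ∣ Nat.card (Subgroup.zpowers (g * z * g⁻¹)) → r ∣ Nat.card A := fun g r _ hd => by
    rw [Nat.card_zpowers, show g * z * g⁻¹ = MulAut.conj g z from rfl, MulEquiv.orderOf_eq] at hd
    exact hd.trans (Subgroup.orderOf_dvd_natCard _ hz.1)
  obtain ⟨T, hTK, ⟨k, hTk⟩, hT⟩ := hK
  obtain ⟨x, hx, h1⟩ := c.exists_conj_le_of_hallA hTK hTk hT (Subgroup.zpowers_le.2 hg) (hpi g)
  obtain ⟨y, hy, h2⟩ := c.exists_conj_le_of_hallA hTK hTk hT (Subgroup.zpowers_le.2 hh) (hpi h)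
  have e : ∀ (x g : G), Subgroup.zpowers (g * z * g⁻¹) ≤ MulAut.conj x • T →
      MulAut.conj (x * k) • A = MulAut.conj g • A := fun x g h' => by
    refine c.conj_eq_of_conj_central_mem hz ?_
    rw [map_mul, mul_smul]
    exact Subgroup.pointwise_smul_le_pointwise_smul_iff.2 hTk (h' (Subgroup.mem_zpowers _))
  refine ⟨y * x⁻¹, mul_mem hy (inv_mem hx), ?_⟩
  rw [map_mul _ (y * x⁻¹) g, mul_smul, ← e x g h1, smul_smul, ← map_mul, ← e y h h2]
  congr 1
  group

/-- For `1 ≠ v ∈ N_B(A)` the centraliser of `v` normalises `B`. -/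
theorem centralizer_le_normalizer_right (c : Config A B) {v : G} (hv : v ∈ B)
    (hvA : v ∈ Subgroup.normalizer (A : Set G)) (hv1 : v ≠ 1) :
    Subgroup.centralizer ({v} : Set G) ≤ Subgroup.normalizer (B : Set G) := by
  set L := Subgroup.centralizer ({v} : Set G) with hL
  have hLtop : L ≠ ⊤ := c.centralizer_ne_top hv1
  have hLf : ∀ g ∈ L, ∃ a ∈ L ⊓ A, ∃ b ∈ L ⊓ B, g = a * b := by
    intro g hg
    obtain ⟨a, ha, b, hb, rfl⟩ := c.fac g
    have h0 := Subgroup.mem_centralizer_singleton_iff.1 hg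
    have e1 : a⁻¹ * v * a = b * v * b⁻¹ := by
      calc a⁻¹ * v * a = a⁻¹ * (v * (a * b)) * b⁻¹ := by group
        _ = a⁻¹ * (a * b * v) * b⁻¹ := by rw [h0]
        _ = _ := by group
    have hmemB : v⁻¹ * (a⁻¹ * v * a) ∈ B := by
      rw [e1]
      exact mul_mem (inv_mem hv) (mul_mem (mul_mem hb hv) (inv_mem hb))
    have hmemA : v⁻¹ * (a⁻¹ * v * a) ∈ A := by
      rw [show v⁻¹ * (a⁻¹ * v * a) = (v⁻¹ * a⁻¹ * v) * a by group]
      refine mul_mem ?_ ha
      simpa using (Subgroup.mem_normalizer_iff.1 (inv_mem hvA) a⁻¹).1 (inv_mem ha)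
    have h1 : v⁻¹ * (a⁻¹ * v * a) ∈ A ⊓ B := ⟨hmemA, hmemB⟩
    rw [c.inf_eq_bot, Subgroup.mem_bot, inv_mul_eq_one] at h1
    have haL : a ∈ L := by
      rw [hL, Subgroup.mem_centralizer_singleton_iff]
      calc a * v = a * (a⁻¹ * v * a) := by rw [← h1]
        _ = v * a := by group
    exact ⟨a, ⟨haL, ha⟩, b, ⟨(Subgroup.mul_mem_cancel_left _ haL).1 hg, hb⟩, rfl⟩
  obtain ⟨w, hw⟩ := c.exists_central_B
  have hwL : w ∈ L := Subgroup.mem_centralizer_singleton_iff.2 (hw.2.2 v hv).symm
  have hLs := fac_symm c.fac hLf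
  have hFB : ∀ r : Nat.Primes, F (r : ℕ) L ≤ B := by
    intro r
    by_cases h : F (r : ℕ) L = ⊥
    · rw [h]; exact bot_le
    rcases c.dvd_of_core_ne_bot r.2 h with hra | hrb
    · refine absurd ?_ id
      exact c.symm.no_norm hw r.2 hra h (CfsgLib.Base.isPGroup_map_pCore _ L) 1
        (by simpa using CfsgLib.Base.le_normalizer_map_pCore L hwL)
    · exact c.symm.core_le hLs r.2 hrb
  intro x hx
  have hwF : w ∈ ⨆ r : Nat.Primes, F (r : ℕ) L :=
    mem_iSup_of_centralizes (c.sol L hLtop hLf) hwL fun r y hy => hw.2.2 y (hFB r hy)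
  have hFn : L ≤ Subgroup.normalizer ((⨆ r : Nat.Primes, F (r : ℕ) L : Subgroup G) : Set G) := by
    rw [← Subgroup.map_iSup, ← CfsgLib.Base.fittingSubgroup_eq_iSup_pCore]
    haveI := CfsgLib.Base.fittingSubgroup_normal' L
    intro l hl
    refine Subgroup.le_normalizer_map _ ⟨⟨l, hl⟩, ?_, rfl⟩
    rw [SetLike.mem_coe, Subgroup.normalizer_eq_top]
    exact Subgroup.mem_top _
  have hxw : x * w * x⁻¹ ∈ B :=
    iSup_le hFB ((Subgroup.mem_normalizer_iff.1 (hFn hx) w).1 hwF)
  have h1 := c.symm.conj_eq_of_conj_central_mem hw (g := x) (h := 1)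
    (by rwa [map_one, one_smul])
  rw [map_one, one_smul] at h1
  refine Subgroup.mem_normalizer_iff.2 fun y => ?_
  conv_rhs => rw [h1, mem_conj_smul]
  rw [show x⁻¹ * (x * y * x⁻¹) * x = y by group]

/-- Centralisers of elements of prime order of `A` normalise `A`. -/
theorem centralizer_le_normalizer_left (c : Config A B) {a : G} (ha : a ∈ A)
    (hord : (orderOf a).Prime) :
    Subgroup.centralizer ({a} : Set G) ≤ Subgroup.normalizer (A : Set G) := by
  set N := Subgroup.normalizer (A : Set G) with hN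
  set K := Subgroup.centralizer ({a} : Set G) with hKdef
  have ha1 : a ≠ 1 := fun e => hord.ne_one (by rw [e, orderOf_one])
  have haK : a ∈ K := Subgroup.mem_centralizer_singleton_iff.2 rfl
  by_cases hout : ∃ f ∈ N ⊓ K, f ∉ A
  · obtain ⟨f, ⟨hfN, hfK⟩, hfA⟩ := hout
    obtain ⟨α, hα, β, hβ, hfe⟩ := c.fac f
    have hβN : β ∈ N := by
      have : β = α⁻¹ * f := by rw [hfe, inv_mul_cancel_left]
      rw [this]
      exact mul_mem (Subgroup.le_normalizer (inv_mem hα)) hfN
    have hf'1 : f ^ Nat.card A ≠ 1 := by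
      intro h1
      haveI : (A.subgroupOf N).Normal := Subgroup.normal_in_normalizer
      have e1 : QuotientGroup.mk' (A.subgroupOf N) ⟨f, hfN⟩ =
          QuotientGroup.mk' (A.subgroupOf N) ⟨β, hβN⟩ := by
        refine QuotientGroup.eq.2 ?_
        rw [Subgroup.mem_subgroupOf]
        show f⁻¹ * β ∈ A
        rw [hfe, show (α * β)⁻¹ * β = β⁻¹ * α⁻¹ * β by group]
        simpa using (Subgroup.mem_normalizer_iff.1 (inv_mem hβN) α⁻¹).1 (inv_mem hα)
      have h2 : orderOf (QuotientGroup.mk' (A.subgroupOf N) ⟨f, hfN⟩) = 1 := by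
        refine Nat.eq_one_of_dvd_coprimes c.cop ?_ ?_
        · exact (orderOf_map_dvd _ _).trans (orderOf_dvd_of_pow_eq_one (Subtype.ext h1))
        · rw [e1]
          refine (orderOf_map_dvd _ _).trans ?_
          rw [← Subgroup.orderOf_coe]
          exact Subgroup.orderOf_dvd_natCard _ hβ
      rw [orderOf_eq_one_iff, QuotientGroup.mk'_apply, QuotientGroup.eq_one_iff] at h2
      exact hfA h2
    set f' := f ^ Nat.card A with hf'
    -- move `f'` into `B`
    have hf'ord : orderOf f' ∣ Nat.card B := by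
      refine orderOf_dvd_of_pow_eq_one ?_
      rw [hf', ← pow_mul, ← c.card_eq, pow_card_eq_one']
    have hVcard : Nat.card ((N ⊓ B).subgroupOf N) = Nat.card (N ⊓ B : Subgroup G) :=
      Nat.card_congr (Subgroup.subgroupOfEquivOfLe inf_le_left).toEquiv
    have hNcard : Nat.card N = Nat.card A * Nat.card (N ⊓ B : Subgroup G) := by
      rw [← Nat.card_prod]
      refine (Nat.card_congr (Equiv.ofBijective (fun x : A × (N ⊓ B : Subgroup G) =>
        (⟨(x.1 : G) * x.2, mul_mem (Subgroup.le_normalizer x.1.2) x.2.2.1⟩ : N)) ⟨?_, ?_⟩)).symm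
      · intro x y hxy
        refine Subgroup.mul_injective_of_disjoint (disjoint_iff.2
          (le_bot_iff.1 ((inf_le_inf_left A inf_le_right).trans_eq c.inf_eq_bot))) ?_
        exact congrArg Subtype.val hxy
      · rintro ⟨g, hg⟩
        obtain ⟨a, ha, b, hb, rfl⟩ := c.fac g
        exact ⟨(⟨a, ha⟩, ⟨b, (Subgroup.mul_mem_cancel_left _ (Subgroup.le_normalizer ha)).1 hg,
          hb⟩), rfl⟩
    have hVidx : ((N ⊓ B).subgroupOf N).index = Nat.card A := by
      apply Nat.eq_of_mul_eq_mul_left (Nat.card_pos (α := (N ⊓ B).subgroupOf N))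
      rw [Subgroup.card_mul_index, hNcard, hVcard, mul_comm]
    have hVHall : (Nat.card ((N ⊓ B).subgroupOf N)).Coprime ((N ⊓ B).subgroupOf N).index := by
      rw [hVcard, hVidx]
      exact c.cop.symm.coprime_dvd_left (Subgroup.card_dvd_of_le inf_le_right)
    have hVn : Group.IsNilpotent ((N ⊓ B).subgroupOf N) := by
      haveI := CfsgLib.Base.isNilpotent_of_le (inf_le_right : N ⊓ B ≤ B) c.nilB
      exact Group.nilpotent_of_mulEquiv (Subgroup.subgroupOfEquivOfLe inf_le_left).symm
    have hf'N : f' ∈ N := pow_mem hfN _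
    obtain ⟨⟨x, hx⟩, hle⟩ := exists_conj_le_nilpotent_hall _ ((N ⊓ B).subgroupOf N)
      (Subgroup.zpowers (⟨f', hf'N⟩ : N)) (Nat.lt_succ_self _) hVn hVHall fun r hr hd => by
        rw [Nat.card_zpowers, ← Subgroup.orderOf_coe] at hd
        rw [hVcard]
        have hrN : r ∣ Nat.card N := hd.trans (Subgroup.orderOf_dvd_natCard _ hf'N)
        exact ((Nat.Prime.dvd_mul hr).1 (hNcard ▸ hrN)).resolve_left fun h =>
          hr.ne_one (Nat.eq_one_of_dvd_coprimes c.cop h (hd.trans hf'ord))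
    have hv := hle (Subgroup.mem_zpowers _)
    rw [mem_conj_smul, Subgroup.mem_subgroupOf] at hv
    have hv' : x⁻¹ * f' * x ∈ N ⊓ B := hv
    have hv1 : x⁻¹ * f' * x ≠ 1 := fun e => hf'1 (by
      have := congrArg (fun t => x * t * x⁻¹) e
      simpa [mul_assoc] using this)
    have hu : x⁻¹ * a * x ∈ A := by
      simpa using (Subgroup.mem_normalizer_iff.1 (inv_mem hx) a).1 ha
    have huN : x⁻¹ * a * x ∈ Subgroup.normalizer (B : Set G) := by
      refine c.centralizer_le_normalizer_right hv'.2 hv'.1 hv1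
        (Subgroup.mem_centralizer_singleton_iff.2 ?_)
      have h := Subgroup.mem_centralizer_singleton_iff.1 (pow_mem hfK (Nat.card A))
      calc x⁻¹ * a * x * (x⁻¹ * f' * x) = x⁻¹ * (a * f') * x := by group
        _ = x⁻¹ * (f' * a) * x := by rw [hf', h]
        _ = _ := by group
    have hCu := c.symm.centralizer_le_normalizer_right hu huN fun e => ha1 (by
      have := congrArg (fun t => x * t * x⁻¹) e
      simpa [mul_assoc] using this)
    intro y hy
    have h4 : x⁻¹ * y * x ∈ N := hCu (by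
      have h5 := (mem_centralizer_singleton_conj (g := x⁻¹) (x := a) (y := y)).2 hy
      simpa using h5)
    have h6 := mul_mem (mul_mem hx h4) (inv_mem hx)
    simpa [mul_assoc] using h6
  push Not at hout
  obtain ⟨p, hp, hpd⟩ : ∃ p, p.Prime ∧ orderOf a = p := ⟨_, hord, rfl⟩
  have hpa : p ∣ Nat.card A := hpd ▸ Subgroup.orderOf_dvd_natCard _ ha
  have hHallK : HallA A K := by
    have h := c.hallA_centralizer c.hallA_top (Subgroup.mem_top a) hp hpa ⟨1, by rw [hpd, pow_one]⟩
    rwa [top_inf_eq] at h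
  obtain ⟨z, hz⟩ := c.exists_central_A
  have hzK : ∀ g : G, a ∈ MulAut.conj g • A → g * z * g⁻¹ ∈ K := by
    intro g hg
    rw [mem_conj_smul] at hg
    rw [hKdef, Subgroup.mem_centralizer_singleton_iff]
    have h := hz.2.2 _ hg
    calc g * z * g⁻¹ * a = g * (z * (g⁻¹ * a * g)) * g⁻¹ := by group
      _ = g * ((g⁻¹ * a * g) * z) * g⁻¹ := by rw [h]
      _ = _ := by group
  have hzK1 : z ∈ K := by
    have := hzK 1 (by rwa [map_one, one_smul])
    simpa using this
  set W := A ⊓ K with hW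
  -- `W` is a Hall subgroup of `K`
  obtain ⟨T, hTK, ⟨k, hTk⟩, hT⟩ := hHallK
  obtain ⟨x, hx, hzT⟩ := c.exists_conj_le_of_hallA hTK hTk hT (Subgroup.zpowers_le.2 hzK1)
    fun r _ hd => hd.trans (by rw [Nat.card_zpowers]; exact Subgroup.orderOf_dvd_natCard _ hz.1)
  have hWT : MulAut.conj x • T ≤ W := by
    have h1 : MulAut.conj x • T ≤ MulAut.conj (x * k) • A := by
      rw [map_mul, mul_smul]
      exact Subgroup.pointwise_smul_le_pointwise_smul_iff.2 hTk
    rw [c.conj_eq_of_central_mem hz (h1 (hzT (Subgroup.mem_zpowers z)))] at h1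
    refine le_inf h1 fun u hu => ?_
    rw [mem_conj_smul] at hu
    have := mul_mem (mul_mem hx (hTK hu)) (inv_mem hx)
    simpa [mul_assoc] using this
  have hWidx : ∀ r : ℕ, r.Prime → r ∣ Nat.card A → ¬ r ∣ W.relIndex K := by
    intro r hr hra hd
    refine hT r hr hra ?_
    have hKx : MulAut.conj x • K = K := Subgroup.conj_smul_eq_self_of_mem hx
    have he : (MulAut.conj x • T).relIndex K = T.relIndex K := by
      conv_lhs => rw [← hKx]
      exact Subgroup.relIndex_map_map_of_injective T K (MulAut.conj x).injective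
    rw [← he]
    exact hd.trans (Subgroup.relIndex_dvd_of_le_left K hWT)
  have hWn : Group.IsNilpotent W := CfsgLib.Base.isNilpotent_of_le inf_le_left c.nilA
  have hWK : W.subgroupOf K = A.subgroupOf K := Subgroup.inf_subgroupOf_right A K
  have hcomp : ∀ r : ℕ, r.Prime → r ∣ Nat.card A → Cfsg.HasNormalPComplement r K := by
    intro r hr hra
    haveI := Fact.mk hr
    obtain ⟨S⟩ : Nonempty (Sylow r (W.subgroupOf K)) := inferInstance
    haveI : Group.IsNilpotent (W.subgroupOf K) :=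
      Group.nilpotent_of_mulEquiv (Subgroup.subgroupOfEquivOfLe inf_le_right).symm
    set S' := (S : Subgroup (W.subgroupOf K)).map (W.subgroupOf K).subtype with hS'
    have hS'i : ¬ r ∣ S'.index := by
      intro hd
      rw [← Subgroup.relIndex_mul_index (Subgroup.map_subtype_le _ : S' ≤ W.subgroupOf K)] at hd
      rcases (Nat.Prime.dvd_mul hr).1 hd with h | h
      · have e : S'.subgroupOf (W.subgroupOf K) = (S : Subgroup (W.subgroupOf K)) :=
          Subgroup.comap_map_eq_self_of_injective (W.subgroupOf K).subtype_injective _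
        rw [Subgroup.relIndex, e] at h
        exact S.not_dvd_index h
      · exact hWidx r hr hra h
    refine CfsgLib.Transfer.hasNormalPComplement_of_fusion ((S.isPGroup'.map _).toSylow hS'i) ?_
    rintro u hu g hg
    obtain ⟨⟨u', hu'W⟩, hu'S, rfl⟩ := hu
    obtain ⟨⟨y', hy'W⟩, hy'S, hy'e⟩ := hg
    have hy'eq : (y' : G) = (g : G) * u' * (g : G)⁻¹ := congrArg Subtype.val hy'e
    obtain ⟨m, hm⟩ := IsPGroup.iff_orderOf.1 S.isPGroup' ⟨⟨y', hy'W⟩, hy'S⟩
    have hym : orderOf (y' : G) = r ^ m := by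
      rw [← hm]
      exact (Subgroup.orderOf_coe y').trans ((Subgroup.orderOf_coe (⟨y', hy'W⟩ : W.subgroupOf K)).trans
        (Subgroup.orderOf_coe (⟨⟨y', hy'W⟩, hy'S⟩ : (S : Subgroup (W.subgroupOf K)))))
    have hyA : (y' : G) ∈ A := (Subgroup.mem_subgroupOf.1 hy'W).1
    have huA : (u' : G) ∈ A := (Subgroup.mem_subgroupOf.1 hu'W).1
    have hK' := c.hallA_centralizer (K := K) ⟨T, hTK, ⟨k, hTk⟩, hT⟩ y'.2 hr hra ⟨m, hym⟩
    have hz1 : z ∈ K ⊓ Subgroup.centralizer ({(y' : G)} : Set G) :=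
      ⟨hzK1, Subgroup.mem_centralizer_singleton_iff.2 (hz.2.2 _ hyA).symm⟩
    have hga : a ∈ MulAut.conj (g : G) • A := by
      rw [mem_conj_smul]
      have h := Subgroup.mem_centralizer_singleton_iff.1 g.2
      rw [mul_assoc, ← h, inv_mul_cancel_left]
      exact ha
    have hz2 : (g : G) * z * (g : G)⁻¹ ∈ K ⊓ Subgroup.centralizer ({(y' : G)} : Set G) := by
      refine ⟨hzK _ hga, Subgroup.mem_centralizer_singleton_iff.2 ?_⟩
      rw [hy'eq]
      have h := hz.2.2 _ huA
      calc (g : G) * z * (g : G)⁻¹ * ((g : G) * u' * (g : G)⁻¹) = (g : G) * (z * u') * (g : G)⁻¹ := by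
            group
        _ = (g : G) * ((u' : G) * z) * (g : G)⁻¹ := by rw [h]
        _ = _ := by group
    obtain ⟨d, hd, hde⟩ := c.exists_conj_in_hallA hK' hz hz2
      (h := 1) (by simpa using hz1)
    rw [map_one, one_smul] at hde
    have hdN : d * (g : G) ∈ N := by
      refine Subgroup.mem_normalizer_iff.2 fun w => ?_
      conv_rhs => rw [← hde, mem_conj_smul]
      rw [show (d * (g : G))⁻¹ * (d * (g : G) * w * (d * (g : G))⁻¹) * (d * (g : G)) = w by group]
    have hdgK : d * (g : G) ∈ K := mul_mem hd.1 g.2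
    have hdgW : (⟨d * (g : G), hdgK⟩ : K) ∈ W.subgroupOf K :=
      Subgroup.mem_subgroupOf.2 ⟨hout _ ⟨hdN, hdgK⟩, hdgK⟩
    obtain ⟨s, hs, t, -, hst, ⟨e, he⟩, htc⟩ :=
      CfsgLib.Transfer.exists_pPart_mul (p := r) (⟨⟨d * (g : G), hdgK⟩, hdgW⟩ : W.subgroupOf K)
    have hsS : s ∈ (S : Subgroup (W.subgroupOf K)) := by
      haveI : (S : Subgroup (W.subgroupOf K)).Normal :=
        S.normal_of_normalizerCondition Group.normalizerCondition_of_isNilpotent
      obtain ⟨j, -, hj⟩ := (Nat.dvd_prime_pow hr).1 he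
      have hsp : IsPGroup r (Subgroup.zpowers s) :=
        IsPGroup.of_card (n := j) (by rw [Nat.card_zpowers, hj])
      obtain ⟨S₂, hS₂⟩ := hsp.exists_le_sylow
      have := hS₂ (Subgroup.mem_zpowers s)
      have hS₂eq : S₂ = S := by
        haveI : Subsingleton (Sylow r (W.subgroupOf K)) :=
          (Sylow.unique_of_normal S ‹_›).instSubsingleton
        exact Subsingleton.elim _ _
      exact hS₂eq ▸ this
    have htu := Subgroup.mem_centralizer_iff.1
      (CfsgLib.Transfer.mem_centralizer_sylow_of_isNilpotent S htc) _ hu'S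
    refine ⟨(s : K), ⟨s, hsS, rfl⟩, ?_⟩
    apply Subtype.ext
    have hdy := Subgroup.mem_centralizer_singleton_iff.1 hd.2
    have hst' : (s : G) * t = d * g := congrArg (fun w : W.subgroupOf K => ((w : K) : G)) hst
    have htu' : (u' : G) * t = t * u' := congrArg (fun w : W.subgroupOf K => ((w : K) : G)) htu
    show (s : G) * u' * (s : G)⁻¹ = g * u' * (g : G)⁻¹
    calc (s : G) * u' * (s : G)⁻¹ = ((s : G) * (t : G)) * u' * ((s : G) * (t : G))⁻¹ := by
          rw [show ((s : G) * t) * u' * ((s : G) * t)⁻¹ = s * (t * u') * (t : G)⁻¹ * (s : G)⁻¹ by group,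
            ← htu']
          group
      _ = d * (g * u' * (g : G)⁻¹) * d⁻¹ := by rw [hst']; group
      _ = d * y' * d⁻¹ := by rw [hy'eq]
      _ = y' := by rw [hdy, mul_inv_cancel_right]
      _ = _ := hy'eq
  -- every prime of `K` divides `|A|`
  have hprimes : ∀ q : ℕ, q.Prime → q ∣ Nat.card K → q ∣ Nat.card A := by
    intro q hq hqK
    by_contra hqa
    haveI := Fact.mk hq
    have hqb : q ∣ Nat.card B := ((Nat.Prime.dvd_mul hq).1
      (c.card_eq ▸ hqK.trans (Subgroup.card_subgroup_dvd_card K))).resolve_left hqa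
    set O : Subgroup K := ⨅ r : {r : ℕ // r.Prime ∧ r ∣ Nat.card A}, Cfsg.pResidual (r : ℕ) K with hO
    haveI : O.Normal := Subgroup.normal_iInf_normal fun r => CfsgLib.Transfer.pResidual_normal
    have hOa : (Nat.card O).Coprime (Nat.card A) := Nat.coprime_of_dvd fun r hr h1 h2 => by
      haveI := Fact.mk hr
      exact CfsgLib.Transfer.hasNormalPComplement_iff_pResidual.1 (hcomp r hr h2)
        (h1.trans (Subgroup.card_dvd_of_le (iInf_le _ (⟨r, hr, h2⟩ : {r : ℕ // r.Prime ∧ r ∣ Nat.card A}))))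
    have hqO : q ∣ Nat.card O := by
      obtain ⟨w, hw⟩ := exists_prime_orderOf_dvd_card' q hqK
      rw [← hw]
      refine Subgroup.orderOf_dvd_natCard _ (Subgroup.mem_iInf.2 fun r => ?_)
      refine CfsgLib.Transfer.mem_pResidual_of_coprime ?_
      rw [hw]
      exact (Nat.coprime_primes hq r.2.1).2 fun e => hqa (e ▸ r.2.2)
    set O' := O.map K.subtype with hO'
    have hO'c : Nat.card O' = Nat.card O := Subgroup.card_map_of_injective K.subtype_injective
    have hzn : Subgroup.zpowers z ≤ Subgroup.normalizer (O' : Set G) := by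
      refine Subgroup.zpowers_le.2 (Subgroup.le_normalizer_map _ ⟨⟨z, hzK1⟩, ?_, rfl⟩)
      rw [SetLike.mem_coe, Subgroup.normalizer_eq_top]
      exact Subgroup.mem_top _
    obtain ⟨P, hP⟩ := CfsgLib.Coprime.exists_invariant_sylow (p := q) hzn
      (by
        rw [hO'c, Nat.card_zpowers]
        exact (hOa.symm.coprime_dvd_left (Subgroup.orderOf_dvd_natCard _ hz.1)))
      (Or.inl inferInstance)
    refine c.no_norm hz hq hqb (R := (P : Subgroup O').map O'.subtype) ?_ (P.isPGroup'.map _) 1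
      (by simpa using hP (Subgroup.mem_zpowers z))
    rw [ne_eq, Subgroup.map_eq_bot_iff_of_injective _ O'.subtype_injective]
    exact P.ne_bot_of_dvd_card (hO'c ▸ hqO)
  have hKW : W.relIndex K = 1 := by
    by_contra hne
    obtain ⟨q, hq, hqd⟩ := Nat.exists_prime_and_dvd hne
    exact hWidx q hq (hprimes q hq (hqd.trans (Subgroup.relIndex_dvd_card _ _))) hqd
  exact (Subgroup.relIndex_eq_one.1 hKW).trans (inf_le_left.trans Subgroup.le_normalizer)

end Config

end CfsgLib.SolvStruct.KW
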