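import Cfsg.Agent.Lib.SolvStruct.KegelWielandt.Centralizers

/-!
# A simple coprime product of nilpotent groups does not exist: the count
-/

set_option autoImplicit false
set_option linter.style.haveILetI false
set_option linter.unusedSectionVars false

open scoped Pointwise

namespace CfsgLib.SolvStruct.KW

open CfsgLib.Coprime (mem_conj_smul card_conj_smul)

variable {G : Type*} [Group G] [Finite G] {A B : Subgroup G}

theorem ne_bot_of_primes (h : ∀ p : ℕ, p.Prime → ∃ r : ℕ, r.Prime ∧ r ≠ p ∧ r ∣ Nat.card A) :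
    A ≠ ⊥ := fun e => by
  obtain ⟨r, hr, -, hd⟩ := h 2 Nat.prime_two
  rw [e, Subgroup.card_bot] at hd
  exact hr.ne_one (Nat.dvd_one.1 hd)

theorem mem_normalizer_of_conj_eq {g : G} (h : MulAut.conj g • A = A) :
    g ∈ Subgroup.normalizer (A : Set G) :=
  CfsgLib.Coprime.mem_normalizer_iff_conj_smul.2 h

namespace Config

/-- Different conjugates of `A` intersect trivially. -/
theorem eq_of_mem_conj (c : Config A B) {x g : G} (hx1 : x ≠ 1) (hx : x ∈ A)
    (hxg : x ∈ MulAut.conj g • A) : g ∈ Subgroup.normalizer (A : Set G) := by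
  refine mem_normalizer_of_conj_eq ?_
  obtain ⟨p, hp, m, hm⟩ := Nat.exists_prime_and_dvd (fun e => hx1 (orderOf_eq_one_iff.1 e))
  have hm0 : m ≠ 0 := fun e => by rw [e, mul_zero] at hm; exact (orderOf_pos x).ne' hm
  have hord : orderOf (x ^ m) = p := by
    rw [orderOf_pow_of_dvd hm0 (Dvd.intro_left p hm.symm), hm,
      Nat.mul_div_left p (Nat.pos_of_ne_zero hm0)]
  have ha : x ^ m ∈ A := pow_mem hx m
  set K := Subgroup.centralizer ({x ^ m} : Set G) with hKdef
  have hK : HallA A K := by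
    have h := c.hallA_centralizer c.hallA_top (Subgroup.mem_top (x ^ m)) hp
      (hord ▸ Subgroup.orderOf_dvd_natCard _ ha) ⟨1, by rw [hord, pow_one]⟩
    rwa [top_inf_eq] at h
  obtain ⟨z, hz⟩ := c.exists_central_A
  have hzK : ∀ g : G, x ^ m ∈ MulAut.conj g • A → g * z * g⁻¹ ∈ K := by
    intro g hg
    rw [mem_conj_smul] at hg
    rw [hKdef, Subgroup.mem_centralizer_singleton_iff]
    have h := hz.2.2 _ hg
    calc g * z * g⁻¹ * x ^ m = g * (z * (g⁻¹ * x ^ m * g)) * g⁻¹ := by group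
      _ = g * ((g⁻¹ * x ^ m * g) * z) * g⁻¹ := by rw [h]
      _ = _ := by group
  obtain ⟨k, hk, hke⟩ := c.exists_conj_in_hallA hK hz
    (hzK 1 (by rw [map_one, one_smul]; exact ha)) (hzK g (pow_mem hxg m))
  rw [mul_one] at hke
  rw [← hke]
  exact CfsgLib.Coprime.mem_normalizer_iff_conj_smul.1
    (c.centralizer_le_normalizer_left ha (hord.symm ▸ hp) hk)

theorem card_normalizer (c : Config A B) :
    Nat.card (Subgroup.normalizer (A : Set G)) =
      Nat.card A * Nat.card (B ⊓ Subgroup.normalizer (A : Set G) : Subgroup G) := by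
  rw [← Nat.card_prod]
  refine (Nat.card_congr (Equiv.ofBijective
    (fun x : A × (B ⊓ Subgroup.normalizer (A : Set G) : Subgroup G) =>
      (⟨(x.1 : G) * x.2, mul_mem (Subgroup.le_normalizer x.1.2) x.2.2.2⟩ :
        Subgroup.normalizer (A : Set G))) ⟨?_, ?_⟩)).symm
  · intro x y hxy
    refine Subgroup.mul_injective_of_disjoint (disjoint_iff.2
      (le_bot_iff.1 ((inf_le_inf_left A inf_le_left).trans_eq c.inf_eq_bot))) ?_
    exact congrArg Subtype.val hxy
  · rintro ⟨g, hg⟩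
    obtain ⟨a, ha, b, hb, rfl⟩ := c.fac g
    exact ⟨(⟨a, ha⟩, ⟨b, hb,
      (Subgroup.mul_mem_cancel_left _ (Subgroup.le_normalizer ha)).1 hg⟩), rfl⟩

theorem index_normalizer (c : Config A B) :
    (Subgroup.normalizer (A : Set G)).index *
      Nat.card (B ⊓ Subgroup.normalizer (A : Set G) : Subgroup G) = Nat.card B := by
  apply Nat.eq_of_mul_eq_mul_left (Nat.card_pos (α := A))
  rw [mul_comm (Subgroup.normalizer (A : Set G)).index, ← mul_assoc, ← c.card_normalizer,
    Subgroup.card_mul_index, c.card_eq]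

theorem card_inf_normalizer_lt (c : Config A B) :
    Nat.card (B ⊓ Subgroup.normalizer (A : Set G) : Subgroup G) < Nat.card B := by
  refine lt_of_le_of_ne (Nat.le_of_dvd Nat.card_pos (Subgroup.card_dvd_of_le inf_le_left))
    fun h => ?_
  have hBN : B ≤ Subgroup.normalizer (A : Set G) := by
    have := Subgroup.eq_of_le_of_card_ge inf_le_left h.ge
    exact this ▸ inf_le_right
  refine c.normalizer_ne_top (ne_bot_of_primes c.primesA) ?_ (top_le_iff.1 fun g _ => ?_)
  · intro e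
    refine ne_bot_of_primes c.primesB ?_
    rw [← c.inf_eq_bot, e, top_inf_eq]
  · obtain ⟨a, ha, b, hb, rfl⟩ := c.fac g
    exact mul_mem (Subgroup.le_normalizer ha) (hBN hb)

/-- There is no simple coprime product of nilpotent groups of composite primary type. -/
theorem impossible (c : Config A B) : False := by
  set NA := Subgroup.normalizer (A : Set G) with hNA
  set NB := Subgroup.normalizer (B : Set G) with hNB
  set U := A ⊓ NB with hU
  set V := B ⊓ NA with hV
  set D := NA ⊓ NB with hD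
  have hUV : ∀ u ∈ U, ∀ v ∈ V, u * v = v * u := by
    intro u hu v hv
    rw [← commutatorElement_eq_one_iff_mul_comm]
    have h1 : u * v * u⁻¹ * v⁻¹ ∈ A := by
      have := (Subgroup.mem_normalizer_iff.1 hv.2 u⁻¹).1 (inv_mem hu.1)
      rw [show u * v * u⁻¹ * v⁻¹ = u * (v * u⁻¹ * v⁻¹) by group]
      exact mul_mem hu.1 this
    have h2 : u * v * u⁻¹ * v⁻¹ ∈ B :=
      mul_mem ((Subgroup.mem_normalizer_iff.1 hu.2 v).1 hv.1) (inv_mem hv.1)
    have : u * v * u⁻¹ * v⁻¹ ∈ A ⊓ B := ⟨h1, h2⟩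
    rwa [c.inf_eq_bot, Subgroup.mem_bot, ← commutatorElement_def] at this
  have hdis : Disjoint U V := disjoint_iff.2
    (le_bot_iff.1 ((inf_le_inf inf_le_left inf_le_left).trans_eq c.inf_eq_bot))
  have hcardD : Nat.card D = Nat.card U * Nat.card V := by
    rw [← Nat.card_prod]
    refine (Nat.card_congr (Equiv.ofBijective (fun x : U × V =>
      (⟨(x.1 : G) * x.2, mul_mem (Subgroup.le_normalizer x.1.2.1) x.2.2.2,
        mul_mem x.1.2.2 (Subgroup.le_normalizer x.2.2.1)⟩ : D)) ⟨?_, ?_⟩)).symm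
    · intro x y hxy
      exact Subgroup.mul_injective_of_disjoint hdis (congrArg Subtype.val hxy)
    · rintro ⟨g, hgA, hgB⟩
      obtain ⟨a, ha, b, hb, rfl⟩ := c.fac g
      exact ⟨(⟨a, ha, (Subgroup.mul_mem_cancel_right _ (Subgroup.le_normalizer hb)).1 hgB⟩,
        ⟨b, hb, (Subgroup.mul_mem_cancel_left _ (Subgroup.le_normalizer ha)).1 hgA⟩), rfl⟩
  -- orders of the three kinds of elements
  have hpowU : ∀ u ∈ U, ∀ v ∈ V, (u * v) ^ Nat.card B = u ^ Nat.card B := by
    intro u hu v hv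
    rw [Commute.mul_pow (hUV u hu v hv),
      orderOf_dvd_iff_pow_eq_one.1 (Subgroup.orderOf_dvd_natCard _ hv.1), mul_one]
  have hpowV : ∀ u ∈ U, ∀ v ∈ V, (u * v) ^ Nat.card A = v ^ Nat.card A := by
    intro u hu v hv
    rw [Commute.mul_pow (hUV u hu v hv),
      orderOf_dvd_iff_pow_eq_one.1 (Subgroup.orderOf_dvd_natCard _ hu.1), one_mul]
  have hneA : ∀ {u : G}, u ∈ A → u ≠ 1 → u ^ Nat.card B ≠ 1 := fun {u} hu h1 e =>
    h1 (orderOf_eq_one_iff.1 (Nat.eq_one_of_dvd_coprimes c.cop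
      (Subgroup.orderOf_dvd_natCard _ hu) (orderOf_dvd_of_pow_eq_one e)))
  have hneB : ∀ {v : G}, v ∈ B → v ≠ 1 → v ^ Nat.card A ≠ 1 := fun {v} hv h1 e =>
    h1 (orderOf_eq_one_iff.1 (Nat.eq_one_of_dvd_coprimes c.cop
      (orderOf_dvd_of_pow_eq_one e) (Subgroup.orderOf_dvd_natCard _ hv)))
  have hTI : ∀ (g : G) {x : G}, x ≠ 1 → x ∈ A → g * x * g⁻¹ ∈ A → g ∈ NA := by
    intro g x hx1 hx hgx
    have := c.eq_of_mem_conj (g := g⁻¹) hx1 hx
      (by rw [mem_conj_smul, inv_inv]; exact hgx)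
    simpa using inv_mem this
  have hTI' : ∀ (g : G) {x : G}, x ≠ 1 → x ∈ B → g * x * g⁻¹ ∈ B → g ∈ NB := by
    intro g x hx1 hx hgx
    have := c.symm.eq_of_mem_conj (g := g⁻¹) hx1 hx
      (by rw [mem_conj_smul, inv_inv]; exact hgx)
    simpa using inv_mem this
  let φ : ((G ⧸ NA) × {x : A // x ≠ 1}) ⊕ ((G ⧸ NB) × {y : B // y ≠ 1}) ⊕
      ((G ⧸ D) × {x : U // x ≠ 1} × {y : V // y ≠ 1}) → G :=
    Sum.elim (fun w => w.1.out * (w.2.1 : G) * w.1.out⁻¹)
      (Sum.elim (fun w => w.1.out * (w.2.1 : G) * w.1.out⁻¹)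
        (fun w => w.1.out * ((w.2.1.1 : G) * (w.2.2.1 : G)) * w.1.out⁻¹))
  have hpowφ : ∀ g x : G, ∀ n : ℕ, (g * x * g⁻¹) ^ n = g * x ^ n * g⁻¹ := fun g x n => conj_pow
  have heq : ∀ {g h x y : G}, g * x * g⁻¹ = h * y * h⁻¹ → (h⁻¹ * g) * x * (h⁻¹ * g)⁻¹ = y := by
    intro g h x y e
    calc (h⁻¹ * g) * x * (h⁻¹ * g)⁻¹ = h⁻¹ * (g * x * g⁻¹) * h := by group
      _ = _ := by rw [e]; group
  have hA1 : ∀ {x : G}, x ∈ A → x ^ Nat.card A = 1 := fun hx =>
    orderOf_dvd_iff_pow_eq_one.1 (Subgroup.orderOf_dvd_natCard _ hx)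
  have hB1 : ∀ {x : G}, x ∈ B → x ^ Nat.card B = 1 := fun hx =>
    orderOf_dvd_iff_pow_eq_one.1 (Subgroup.orderOf_dvd_natCard _ hx)
  have h12 : ∀ (g h : G) {x y : G}, x ∈ A → x ≠ 1 → y ∈ B → g * x * g⁻¹ ≠ h * y * h⁻¹ := by
    intro g h x y hx hx1 hy e
    refine hneA hx hx1 ?_
    have := congrArg (· ^ Nat.card B) (heq e)
    rwa [hpowφ, hB1 hy, conj_eq_one_iff] at this
  have h13 : ∀ (g h : G) {x u v : G}, x ∈ A → u ∈ U → v ∈ V → v ≠ 1 →
      g * x * g⁻¹ ≠ h * (u * v) * h⁻¹ := by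
    intro g h x u v hx hu hv hv1 e
    refine hneB hv.1 hv1 ?_
    have := congrArg (· ^ Nat.card A) (heq e)
    rw [hpowφ, hA1 hx, hpowV u hu v hv, mul_one, mul_inv_cancel] at this
    exact this.symm
  have h23 : ∀ (g h : G) {y u v : G}, y ∈ B → u ∈ U → u ≠ 1 → v ∈ V →
      g * y * g⁻¹ ≠ h * (u * v) * h⁻¹ := by
    intro g h y u v hy hu hu1 hv e
    refine hneA hu.1 hu1 ?_
    have := congrArg (· ^ Nat.card B) (heq e)
    rw [hpowφ, hB1 hy, hpowU u hu v hv, mul_one, mul_inv_cancel] at this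
    exact this.symm
  have hφ1 : ∀ w, φ w ≠ 1 := by
    rintro (⟨q, ⟨x, hx⟩⟩ | ⟨q, ⟨y, hy⟩⟩ | ⟨q, ⟨x, hx⟩, ⟨y, hy⟩⟩) e <;>
      simp only [φ, Sum.elim_inl, Sum.elim_inr, conj_eq_one_iff] at e
    · exact hx (Subtype.ext e)
    · exact hy (Subtype.ext e)
    · exact hx (Subtype.ext (Subgroup.disjoint_def.1 hdis x.2
        ((mul_eq_one_iff_eq_inv.1 e).symm ▸ inv_mem y.2)))
  have hφ : Function.Injective φ := by
    rintro (⟨q, ⟨x, hx⟩⟩ | ⟨q, ⟨y, hy⟩⟩ | ⟨q, ⟨x, hx⟩, ⟨y, hy⟩⟩)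
      (⟨q', ⟨x', hx'⟩⟩ | ⟨q', ⟨y', hy'⟩⟩ | ⟨q', ⟨x', hx'⟩, ⟨y', hy'⟩⟩) e <;>
      simp only [φ, Sum.elim_inl, Sum.elim_inr] at e
    · have he := heq e
      have hg : q'.out⁻¹ * q.out ∈ NA := hTI _ (fun h => hx (Subtype.ext h)) x.2 (he ▸ x'.2)
      have hq : q = q' := by
        rw [← q.out_eq', ← q'.out_eq']
        exact (QuotientGroup.eq.2 hg).symm
      subst hq
      simp only [inv_mul_cancel, one_mul, inv_one, mul_one] at he
      obtain rfl := Subtype.ext he
      rfl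
    · exact absurd e (h12 _ _ x.2 (fun h => hx (Subtype.ext h)) y'.2)
    · exact absurd e (h13 _ _ x.2 x'.2 y'.2 (fun h => hy' (Subtype.ext h)))
    · exact absurd e.symm (h12 _ _ x'.2 (fun h => hx' (Subtype.ext h)) y.2)
    · have he := heq e
      have hg : q'.out⁻¹ * q.out ∈ NB := hTI' _ (fun h => hy (Subtype.ext h)) y.2 (he ▸ y'.2)
      have hq : q = q' := by
        rw [← q.out_eq', ← q'.out_eq']
        exact (QuotientGroup.eq.2 hg).symm
      subst hq
      simp only [inv_mul_cancel, one_mul, inv_one, mul_one] at he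
      obtain rfl := Subtype.ext he
      rfl
    · exact absurd e (h23 _ _ y.2 x'.2 (fun h => hx' (Subtype.ext h)) y'.2)
    · exact absurd e.symm (h13 _ _ x'.2 x.2 y.2 (fun h => hy (Subtype.ext h)))
    · exact absurd e.symm (h23 _ _ y'.2 x.2 (fun h => hx (Subtype.ext h)) y.2)
    · have he := heq e
      set g := q'.out⁻¹ * q.out with hgdef
      have e1 := congrArg (· ^ Nat.card B) he
      have e2 := congrArg (· ^ Nat.card A) he
      simp only [hpowφ, hpowU _ x.2 _ y.2, hpowU _ x'.2 _ y'.2] at e1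
      simp only [hpowφ, hpowV _ x.2 _ y.2, hpowV _ x'.2 _ y'.2] at e2
      have hgA : g ∈ NA := hTI g (hneA x.2.1 fun h => hx (Subtype.ext h)) (pow_mem x.2.1 _)
        (e1 ▸ pow_mem x'.2.1 _)
      have hgB : g ∈ NB := hTI' g (hneB y.2.1 fun h => hy (Subtype.ext h)) (pow_mem y.2.1 _)
        (e2 ▸ pow_mem y'.2.1 _)
      have hq : q = q' := by
        rw [← q.out_eq', ← q'.out_eq']
        exact (QuotientGroup.eq.2 (⟨hgA, hgB⟩ : g ∈ D)).symm
      subst hq
      rw [hgdef] at he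
      simp only [inv_mul_cancel, one_mul, inv_one, mul_one] at he
      have hxy := Subgroup.mul_injective_of_disjoint hdis (a₁ := (x, y)) (a₂ := (x', y')) he
      obtain ⟨h1, h2⟩ := Prod.ext_iff.1 hxy
      dsimp only at h1 h2
      subst h1 h2
      rfl
  have hle := Nat.card_le_card_of_injective (Set.codRestrict φ ({1}ᶜ : Set G) hφ1)
    (hφ.codRestrict hφ1)
  have hne : ∀ H : Subgroup G, Nat.card {x : H // x ≠ 1} + 1 = Nat.card H := by
    intro H
    classical
    haveI := Fintype.ofFinite H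
    rw [Nat.card_eq_fintype_card, Nat.card_eq_fintype_card, Fintype.card_subtype_compl,
      Fintype.card_subtype_eq]
    have := Fintype.card_pos (α := H)
    omega
  have hG : Nat.card ({1}ᶜ : Set G) + 1 = Nat.card A * Nat.card B := by
    rw [← c.card_eq, Nat.card_coe_set_eq]
    have := Set.ncard_add_ncard_compl ({1} : Set G)
    rw [Set.ncard_singleton] at this
    omega
  simp only [Nat.card_sum, Nat.card_prod, ← Subgroup.index_eq_card] at hle
  have i1 := c.index_normalizer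
  have i2 := c.symm.index_normalizer
  rw [← hNA, ← hV] at i1
  rw [← hNB, ← hU] at i2
  have i3 : D.index * (Nat.card U * Nat.card V) = Nat.card A * Nat.card B := by
    rw [← hcardD, mul_comm, Subgroup.card_mul_index, c.card_eq]
  have hu : Nat.card U < Nat.card A := c.symm.card_inf_normalizer_lt
  have hv : Nat.card V < Nat.card B := c.card_inf_normalizer_lt
  have hA' := hne A
  have hB' := hne B
  have hU' := hne U
  have hV' := hne V
  have h1 := Nat.mul_le_mul_right (Nat.card U * Nat.card V) (Nat.add_le_add_right hle 1)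
  rw [hG] at h1
  generalize Nat.card {x : A // x ≠ 1} = X at *
  generalize Nat.card {x : B // x ≠ 1} = Y at *
  generalize Nat.card {x : U // x ≠ 1} = P at *
  generalize Nat.card {x : V // x ≠ 1} = Q at *
  generalize Nat.card A = a at *
  generalize Nat.card B = b at *
  generalize Nat.card U = u at *
  generalize Nat.card V = v at *
  generalize NA.index = n at *
  generalize NB.index = n' at *
  generalize D.index = m at *
  have e1 : n * X * (u * v) = b * u * X := by rw [← i1]; ring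
  have e2 : n' * Y * (u * v) = a * v * Y := by rw [← i2]; ring
  have e3 : m * (P * Q) * (u * v) = a * b * (P * Q) := by rw [← i3]; ring
  have key : a * b + u * v ≤ a * v + b * u := by
    subst hA' hB' hU' hV'
    nlinarith [h1, e1, e2, e3]
  nlinarith [key, hu, hv]

end Config

end CfsgLib.SolvStruct.KW
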