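import Cfsg.Agent.Lib.SolvStruct.KegelWielandt.Pieces
import Cfsg.Agent.Lib.Coprime.Hall
import Cfsg.Agent.Lib.Base.MinimalNormal
import Cfsg.Agent.Lib.Base.Cores
import Cfsg.Agent.S0562

/-!
# A simple coprime product of nilpotent groups: no proper subgroup sees both factors
-/

set_option autoImplicit false
set_option linter.style.haveILetI false
set_option linter.unusedSectionVars false

open scoped Pointwise
open scoped commutatorElement

namespace CfsgLib.SolvStruct.KW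

open CfsgLib.Coprime (mem_conj_smul)

variable {G : Type*} [Group G] [Finite G] {A B : Subgroup G}

/-- A minimal counterexample to the coprime case of the Kegel–Wielandt theorem. -/
structure Config (A B : Subgroup G) : Prop where
  simple : IsSimpleGroup G
  centerless : Subgroup.center G = ⊥
  nilA : Group.IsNilpotent A
  nilB : Group.IsNilpotent B
  cop : (Nat.card A).Coprime (Nat.card B)
  fac : ∀ g : G, ∃ a ∈ A, ∃ b ∈ B, g = a * b
  primesA : ∀ p : ℕ, p.Prime → ∃ r : ℕ, r.Prime ∧ r ≠ p ∧ r ∣ Nat.card A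
  primesB : ∀ p : ℕ, p.Prime → ∃ r : ℕ, r.Prime ∧ r ≠ p ∧ r ∣ Nat.card B
  sol : ∀ L : Subgroup G, L ≠ ⊤ → (∀ g ∈ L, ∃ a ∈ L ⊓ A, ∃ b ∈ L ⊓ B, g = a * b) →
    Group.IsSolvable L

/-- `A₀` is a normal subgroup of `A`. -/
def Nrm (A A₀ : Subgroup G) : Prop := A₀ ≤ A ∧ A ≤ Subgroup.normalizer (A₀ : Set G)

theorem nrm_pDash (A : Subgroup G) (p : ℕ) : Nrm A (pDash A p) :=
  ⟨pDash_le, le_normalizer_pDash⟩

theorem nrm_zpowers {A : Subgroup G} {z : G} (hz : z ∈ A) (hc : ∀ a ∈ A, a * z = z * a) :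
    Nrm A (Subgroup.zpowers z) := by
  refine ⟨Subgroup.zpowers_le.2 hz, le_trans (fun a ha => ?_) (Subgroup.centralizer_le_normalizer _)⟩
  refine Subgroup.mem_centralizer_iff.2 fun x hx => ?_
  obtain ⟨i, rfl⟩ := Subgroup.mem_zpowers_iff.1 (hx : x ∈ Subgroup.zpowers z)
  exact (Commute.zpow_left (hc a ha).symm i).eq

theorem smul_eq_of_mem_normalizer' {g : G} {H : Subgroup G}
    (hg : g ∈ Subgroup.normalizer (H : Set G)) : MulAut.conj g • H = H := by
  ext y
  rw [mem_conj_smul]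
  have h := Subgroup.mem_normalizer_iff.1 (inv_mem hg) y
  rw [inv_inv] at h
  exact h.symm

theorem fac_symm (h : ∀ g : G, ∃ a ∈ A, ∃ b ∈ B, g = a * b) {L : Subgroup G}
    (hL : ∀ g ∈ L, ∃ a ∈ L ⊓ A, ∃ b ∈ L ⊓ B, g = a * b) :
    ∀ g ∈ L, ∃ b ∈ L ⊓ B, ∃ a ∈ L ⊓ A, g = b * a := fun g hg => by
  obtain ⟨a, ha, b, hb, he⟩ := hL g⁻¹ (inv_mem hg)
  exact ⟨b⁻¹, inv_mem hb, a⁻¹, inv_mem ha, by rw [← mul_inv_rev, ← he, inv_inv]⟩

namespace Config

theorem symm (c : Config A B) : Config B A where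
  simple := c.simple
  centerless := c.centerless
  nilA := c.nilB
  nilB := c.nilA
  cop := c.cop.symm
  fac := factor_symm c.fac
  primesA := c.primesB
  primesB := c.primesA
  sol := fun L hL h => c.sol L hL fun g hg => by
    obtain ⟨b, hb, a, ha, he⟩ := h g⁻¹ (inv_mem hg)
    exact ⟨a⁻¹, inv_mem ha, b⁻¹, inv_mem hb, by rw [← mul_inv_rev, ← he, inv_inv]⟩

theorem inf_eq_bot (c : Config A B) : A ⊓ B = ⊥ :=
  CfsgLib.Coprime.inf_eq_bot_of_coprime c.cop

theorem card_eq (c : Config A B) : Nat.card G = Nat.card A * Nat.card B := by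
  rw [← Nat.card_prod]
  refine (Nat.card_congr (Equiv.ofBijective (fun x : A × B => (x.1 : G) * x.2) ⟨?_, ?_⟩)).symm
  · intro x y hxy
    exact Subgroup.mul_injective_of_disjoint (disjoint_iff.2 c.inf_eq_bot) hxy
  · intro g
    obtain ⟨a, ha, b, hb, rfl⟩ := c.fac g
    exact ⟨(⟨a, ha⟩, ⟨b, hb⟩), rfl⟩

theorem index_eq (c : Config A B) : A.index = Nat.card B := by
  apply Nat.eq_of_mul_eq_mul_left (Nat.card_pos (α := A))
  rw [A.card_mul_index, c.card_eq]

theorem hall (c : Config A B) : (Nat.card A).Coprime A.index := c.index_eq ▸ c.cop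

theorem normalClosure_eq_top (c : Config A B) {S : Subgroup G} (hS : S ≠ ⊥) :
    Subgroup.normalClosure (S : Set G) = ⊤ := by
  haveI := c.simple
  exact (Subgroup.normalClosure_normal.eq_bot_or_eq_top).resolve_left fun h =>
    hS (le_bot_iff.1 (h ▸ Subgroup.subset_normalClosure))

theorem normalizer_ne_top (c : Config A B) {S : Subgroup G} (hS : S ≠ ⊥) (hS' : S ≠ ⊤) :
    Subgroup.normalizer (S : Set G) ≠ ⊤ := by
  intro h
  haveI := c.simple
  exact ((Subgroup.normalizer_eq_top_iff.1 h).eq_bot_or_eq_top).elim hS hS'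

/-- A proper subgroup containing `A` contains no conjugate of a nontrivial normal subgroup
of `B`. -/
theorem not_le_of_le (c : Config A B) {H : Subgroup G} (hH : H ≠ ⊤) (hAH : A ≤ H)
    {B₀ : Subgroup G} (hn : Nrm B B₀) (g : G) (hg : MulAut.conj g • B₀ ≤ H) : B₀ = ⊥ := by
  have key : ∀ g : G, ∀ x ∈ B₀, ∃ a ∈ A, g * x * g⁻¹ ∈ MulAut.conj a • B₀ ∧
      MulAut.conj g • B₀ = MulAut.conj a • B₀ := by
    intro g x hx
    obtain ⟨a, ha, b, hb, rfl⟩ := c.fac g
    have he : MulAut.conj (a * b) • B₀ = MulAut.conj a • B₀ := by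
      rw [map_mul, mul_smul, smul_eq_of_mem_normalizer' (hn.2 hb)]
    exact ⟨a, ha, he ▸ ⟨x, hx, rfl⟩, he⟩
  have hB₀ : B₀ ≤ H := by
    intro x hx
    obtain ⟨a, ha, hxa, he⟩ := key g x hx
    have h2 : MulAut.conj a • B₀ ≤ H := he ▸ hg
    have h3 := h2 (⟨x, hx, rfl⟩ : a * x * a⁻¹ ∈ MulAut.conj a • B₀)
    have h4 := mul_mem (mul_mem (inv_mem (hAH ha)) h3) (hAH ha)
    simpa [mul_assoc] using h4
  by_contra hne
  refine hH (top_le_iff.1 ?_)
  rw [← c.normalClosure_eq_top hne, Subgroup.normalClosure, Subgroup.closure_le]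
  intro y hy
  obtain ⟨x, hx, hc⟩ := Group.mem_conjugatesOfSet_iff.1 hy
  obtain ⟨g, rfl⟩ := isConj_iff.1 hc
  obtain ⟨a, ha, hxa, -⟩ := key g x hx
  obtain ⟨w, hw, hwe⟩ := hxa
  rw [← hwe]
  exact mul_mem (mul_mem (hAH ha) (hB₀ hw)) (inv_mem (hAH ha))

/-- If a proper subgroup contains conjugates of normal subgroups of `A` and `B`, a proper factorised
subgroup contains both. -/
theorem exists_factorised (c : Config A B) {A₀ B₀ H : Subgroup G} (hA₀ : Nrm A A₀) (hB₀ : Nrm B B₀)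
    (hA₀ne : A₀ ≠ ⊥) (hH : H ≠ ⊤) {x y : G} (hx : MulAut.conj x • A₀ ≤ H)
    (hy : MulAut.conj y • B₀ ≤ H) :
    ∃ L : Subgroup G, L ≠ ⊤ ∧ (∀ g ∈ L, ∃ a ∈ L ⊓ A, ∃ b ∈ L ⊓ B, g = a * b) ∧
      A₀ ≤ L ∧ B₀ ≤ L := by
  obtain ⟨a, ha, b, hb, he⟩ := c.fac (x⁻¹ * y)
  set g := x * a with hg
  have hy' : y = x * a * b := by rw [mul_assoc, ← he, mul_inv_cancel_left]
  have h1 : MulAut.conj g • A₀ ≤ H := by
    rw [hg, map_mul, mul_smul, smul_eq_of_mem_normalizer' (hA₀.2 ha)]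
    exact hx
  have h2 : MulAut.conj g • B₀ ≤ H := by
    rw [hy', map_mul _ (x * a) b, mul_smul, smul_eq_of_mem_normalizer' (hB₀.2 hb)] at hy
    exact hy
  set J := A₀ ⊔ B₀ with hJ
  have hJle : MulAut.conj g • J ≤ H := by
    rw [hJ, Subgroup.smul_sup]
    exact sup_le h1 h2
  have hJtop : J ≠ ⊤ := fun e => hH (top_le_iff.1 (le_trans (by
    rw [e]
    intro z _
    rw [mem_conj_smul]
    exact Subgroup.mem_top _) hJle))
  refine ⟨Subgroup.normalizer (J : Set G),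
    c.normalizer_ne_top (fun h => hA₀ne (le_bot_iff.1 (h ▸ le_sup_left))) hJtop,
    Cfsg.Agent.S0562.result A B A₀ B₀ c.fac hA₀.1
      ((Subgroup.normal_subgroupOf_iff_le_normalizer hA₀.1).2 hA₀.2) hB₀.1
      ((Subgroup.normal_subgroupOf_iff_le_normalizer hB₀.1).2 hB₀.2),
    le_sup_left.trans Subgroup.le_normalizer, le_sup_right.trans Subgroup.le_normalizer⟩

/-- The `r`-core of a subgroup, inside `G`. -/
abbrev F (r : ℕ) (L : Subgroup G) : Subgroup G := (Cfsg.pCore r L).map L.subtype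

theorem core_le (c : Config A B) {L : Subgroup G}
    (hL : ∀ g ∈ L, ∃ a ∈ L ⊓ A, ∃ b ∈ L ⊓ B, g = a * b) {r : ℕ} (hr : r.Prime)
    (hra : r ∣ Nat.card A) : F r L ≤ A := by
  haveI := Fact.mk hr
  intro s hs
  obtain ⟨a, ha, b, hb, he⟩ := hL s (Subgroup.map_subtype_le _ hs)
  have hU : L ⊓ A ≤ Subgroup.normalizer (F r L : Set G) :=
    inf_le_left.trans (CfsgLib.Base.le_normalizer_map_pCore L)
  have hbmem : b ∈ (L ⊓ A) ⊔ F r L := by
    have : b = a⁻¹ * s := by rw [he, inv_mul_cancel_left]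
    rw [this]
    exact mul_mem (Subgroup.mem_sup_left (inv_mem ha)) (Subgroup.mem_sup_right hs)
  have hdvd : orderOf b ∣ Nat.card (L ⊓ A : Subgroup G) * Nat.card (F r L) :=
    (Subgroup.orderOf_dvd_natCard _ hbmem).trans
      (Dvd.intro _ (CfsgLib.Coprime.card_sup_mul_card_inf hU))
  obtain ⟨n, hn⟩ := IsPGroup.iff_card.1 (CfsgLib.Base.isPGroup_map_pCore r L)
  have hcop : (Nat.card (L ⊓ A : Subgroup G) * Nat.card (F r L)).Coprime (Nat.card B) := by
    refine Nat.Coprime.mul_left (c.cop.coprime_dvd_left (Subgroup.card_dvd_of_le inf_le_right)) ?_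
    rw [hn]
    exact (c.cop.coprime_dvd_left hra).pow_left n
  have hb1 : b = 1 := orderOf_eq_one_iff.1
    (Nat.eq_one_of_dvd_coprimes hcop hdvd (Subgroup.orderOf_dvd_natCard _ hb.2))
  rw [he, hb1, mul_one]
  exact ha.2

theorem dvd_of_core_ne_bot (c : Config A B) {L : Subgroup G} {r : ℕ} (hr : r.Prime)
    (h : F r L ≠ ⊥) : r ∣ Nat.card A ∨ r ∣ Nat.card B := by
  haveI := Fact.mk hr
  refine (Nat.Prime.dvd_mul hr).1 (c.card_eq ▸ dvd_trans ?_ (Subgroup.card_subgroup_dvd_card (F r L)))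
  rcases (CfsgLib.Base.isPGroup_map_pCore r L).card_eq_or_dvd with h1 | h1
  · exact absurd (Subgroup.card_eq_one.1 h1) h
  · exact h1

theorem normalizer_core_ne_top (c : Config A B) {L : Subgroup G} (hL : L ≠ ⊤) {r : ℕ}
    (h : F r L ≠ ⊥) : Subgroup.normalizer (F r L : Set G) ≠ ⊤ :=
  c.normalizer_ne_top h fun e => hL (top_le_iff.1 (e ▸ Subgroup.map_subtype_le _))

/-- In a solvable subgroup, an element centralising all cores lies in their product. -/
theorem mem_iSup_of_centralizes {L : Subgroup G} (hL : Group.IsSolvable L) {x : G} (hx : x ∈ L)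
    (h : ∀ r : Nat.Primes, ∀ y ∈ F (r : ℕ) L, y * x = x * y) :
    x ∈ ⨆ r : Nat.Primes, F (r : ℕ) L := by
  haveI := hL
  rw [← Subgroup.map_iSup, ← CfsgLib.Base.fittingSubgroup_eq_iSup_pCore]
  refine ⟨⟨x, hx⟩, CfsgLib.Base.centralizer_fittingSubgroup_le ?_, rfl⟩
  have hle : Cfsg.fittingSubgroup L ≤ Subgroup.centralizer ({⟨x, hx⟩} : Set L) := by
    rw [CfsgLib.Base.fittingSubgroup_eq_iSup_pCore]
    refine iSup_le fun r y hy => Subgroup.mem_centralizer_singleton_iff.2 (Subtype.ext ?_)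
    exact h r (y : G) ⟨y, hy, rfl⟩
  exact Subgroup.mem_centralizer_iff.2 fun y hy =>
    Subgroup.mem_centralizer_singleton_iff.1 (hle hy)

theorem exists_core_ne_bot {L : Subgroup G} (hL : Group.IsSolvable L) (hne : L ≠ ⊥) :
    ∃ r : ℕ, r.Prime ∧ F r L ≠ ⊥ := by
  haveI := hL
  haveI : Nontrivial L := (Subgroup.nontrivial_iff_ne_bot L).2 hne
  obtain ⟨r, hr, h⟩ := CfsgLib.Base.exists_prime_pCore_ne_bot (G := L)
  exact ⟨r, hr, fun e => h ((Subgroup.map_eq_bot_iff_of_injective _ L.subtype_injective).1 e)⟩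

/-- In a factorised subgroup containing `A_{p'}` and part of `B`, the cores for primes of `A`
other than `p` are trivial and some core for a prime of `B` is not. -/
theorem core_structure (c : Config A B) {L : Subgroup G} (hLtop : L ≠ ⊤)
    (hLf : ∀ g ∈ L, ∃ a ∈ L ⊓ A, ∃ b ∈ L ⊓ B, g = a * b) {p : ℕ} (hp : p.Prime)
    (hpL : pDash A p ≤ L) {B₀ : Subgroup G} (hB₀ : Nrm B B₀) (hne : B₀ ≠ ⊥) (hBL : B₀ ≤ L) :
    (∀ r : ℕ, r.Prime → r ≠ p → r ∣ Nat.card A → F r L = ⊥) ∧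
      ∃ q : ℕ, q.Prime ∧ q ∣ Nat.card B ∧ F q L ≠ ⊥ := by
  have h1 : ∀ r : ℕ, r.Prime → r ≠ p → r ∣ Nat.card A → F r L = ⊥ := by
    intro r hr hrp hra
    by_contra hFr
    refine hne (c.not_le_of_le (c.normalizer_core_ne_top hLtop hFr) (le_of_pDash_le hp hr hrp
      (hpL.trans (CfsgLib.Base.le_normalizer_map_pCore L)) ?_) hB₀ 1 ?_)
    · exact (pDash_le_centralizer hr c.nilA (c.core_le hLf hr hra)
        (CfsgLib.Base.isPGroup_map_pCore r L)).trans (Subgroup.centralizer_le_normalizer _)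
    · rw [map_one, one_smul]
      exact hBL.trans (CfsgLib.Base.le_normalizer_map_pCore L)
  refine ⟨h1, ?_⟩
  by_contra hno
  push Not at hno
  obtain ⟨r, hr, hrp, hra⟩ := c.primesA p hp
  refine pDash_ne_bot hr hp hrp hra ?_
  haveI := Fact.mk hp
  have hle : (⨆ s : Nat.Primes, F (s : ℕ) L) ≤ F p L := by
    refine iSup_le fun s => ?_
    by_cases hs : (s : ℕ) = p
    · rw [hs]
    by_cases hFs : F (s : ℕ) L = ⊥
    · rw [hFs]; exact bot_le
    rcases c.dvd_of_core_ne_bot s.2 hFs with h | h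
    · exact absurd (h1 _ s.2 hs h) hFs
    · exact absurd (hno _ s.2 h) hFs
  rw [Subgroup.eq_bot_iff_forall]
  intro x hx
  have hmem : x ∈ F p L := by
    refine hle (mem_iSup_of_centralizes (c.sol L hLtop hLf) (hpL hx) fun s y hy => ?_)
    have hy' : y ∈ F p L := hle (Subgroup.mem_iSup_of_mem s hy)
    by_cases hFp : F p L = ⊥
    · rw [hFp, Subgroup.mem_bot] at hy'
      rw [hy', one_mul, mul_one]
    rcases c.dvd_of_core_ne_bot hp hFp with h | h
    · exact Subgroup.mem_centralizer_iff.1 (pDash_le_centralizer hp c.nilA (c.core_le hLf hp h)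
        (CfsgLib.Base.isPGroup_map_pCore p L) hx) y hy'
    · exact absurd (hno _ hp h) hFp
  obtain ⟨n, hn⟩ := IsPGroup.iff_card.1 (CfsgLib.Base.isPGroup_map_pCore p L)
  refine orderOf_eq_one_iff.1 (Nat.eq_one_of_dvd_coprimes ?_ (Subgroup.orderOf_dvd_natCard _ hx)
    (hn ▸ Subgroup.orderOf_dvd_natCard _ hmem))
  exact Nat.Coprime.pow_right _
    ((Nat.Prime.coprime_iff_not_dvd hp).2 (not_dvd_card_pDash hp c.nilA)).symm

/-- No proper factorised subgroup contains `A_{p'}` and part of `B`. -/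
theorem no_pDash_pair (c : Config A B) {L : Subgroup G} (hLtop : L ≠ ⊤)
    (hLf : ∀ g ∈ L, ∃ a ∈ L ⊓ A, ∃ b ∈ L ⊓ B, g = a * b) {p : ℕ} (hp : p.Prime)
    (hpa : p ∣ Nat.card A)
    (hpL : pDash A p ≤ L) {B₀ : Subgroup G} (hB₀ : Nrm B B₀) (hne : B₀ ≠ ⊥) (hBL : B₀ ≤ L) :
    False := by
  obtain ⟨-, q, hq, hqb, hFq⟩ := c.core_structure hLtop hLf hp hpL hB₀ hne hBL
  obtain ⟨r₁, hr₁, hr₁p, hr₁a⟩ := c.primesA p hp
  obtain ⟨s₁, hs₁, hs₁q, hs₁b⟩ := c.primesB q hq
  have hA'ne : pDash A p ≠ ⊥ := pDash_ne_bot hr₁ hp hr₁p hr₁a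
  have hB'ne : pDash B q ≠ ⊥ := pDash_ne_bot hs₁ hq hs₁q hs₁b
  have hLs : ∀ g ∈ L, ∃ b ∈ L ⊓ B, ∃ a ∈ L ⊓ A, g = b * a := fac_symm c.fac hLf
  obtain ⟨M, hMtop, hMf, hA'M, hB'M⟩ := c.exists_factorised (nrm_pDash A p) (nrm_pDash B q)
    hA'ne (c.normalizer_core_ne_top hLtop hFq) (x := 1) (y := 1)
    (by rw [map_one, one_smul]; exact hpL.trans (CfsgLib.Base.le_normalizer_map_pCore L))
    (by
      rw [map_one, one_smul]
      exact (pDash_le_centralizer hq c.nilB (c.symm.core_le hLs hq hqb)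
        (CfsgLib.Base.isPGroup_map_pCore q L)).trans (Subgroup.centralizer_le_normalizer _))
  have hMs := fac_symm c.fac hMf
  have hA1 := (c.core_structure hMtop hMf hp hA'M (nrm_pDash B q) hB'ne hB'M).1
  have hB1 := (c.symm.core_structure hMtop hMs hq hB'M (nrm_pDash A p) hA'ne hA'M).1
  have hFb : ∀ s : ℕ, s.Prime → s ≠ p → s ≠ q → F s M = ⊥ := by
    intro s hs hsp hsq
    by_contra h
    rcases c.dvd_of_core_ne_bot hs h with h' | h'
    · exact h (hA1 s hs hsp h')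
    · exact h (hB1 s hs hsq h')
  haveI := c.sol M hMtop hMf
  haveI := Fact.mk hp
  haveI := Fact.mk hq
  -- work inside `M`
  set Cp := Subgroup.centralizer ((Cfsg.pCore p M : Subgroup M) : Set M) with hCp
  set Cq := Subgroup.centralizer ((Cfsg.pCore q M : Subgroup M) : Set M) with hCq
  haveI hpn : (Cfsg.pCore p M : Subgroup M).Normal := inferInstance
  haveI hqn : (Cfsg.pCore q M : Subgroup M).Normal := inferInstance
  haveI : Cp.Normal := inferInstanceAs
    (Subgroup.centralizer ((Cfsg.pCore p M : Subgroup M) : Set M)).Normal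
  haveI : Cq.Normal := inferInstanceAs
    (Subgroup.centralizer ((Cfsg.pCore q M : Subgroup M) : Set M)).Normal
  set A' := (pDash A p).subgroupOf M with hA'
  set B' := (pDash B q).subgroupOf M with hB'
  have hpb : ¬ p ∣ Nat.card B := fun h => hp.ne_one (Nat.eq_one_of_dvd_coprimes c.cop hpa h)
  have hqa : ¬ q ∣ Nat.card A := fun h => hq.ne_one (Nat.eq_one_of_dvd_coprimes c.cop h hqb)
  have hA'C : A' ≤ Cp := by
    intro a ha
    refine Subgroup.mem_centralizer_iff.2 fun y hy => Subtype.ext ?_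
    exact Subgroup.mem_centralizer_iff.1 (pDash_le_centralizer hp c.nilA (c.core_le hMf hp hpa)
      (CfsgLib.Base.isPGroup_map_pCore p M) ha) _ ⟨y, hy, rfl⟩
  have hB'C : B' ≤ Cq := by
    intro a ha
    refine Subgroup.mem_centralizer_iff.2 fun y hy => Subtype.ext ?_
    exact Subgroup.mem_centralizer_iff.1 (pDash_le_centralizer hq c.nilB (c.symm.core_le hMs hq hqb)
      (CfsgLib.Base.isPGroup_map_pCore q M) ha) _ ⟨y, hy, rfl⟩
  set π : Set ℕ := {r | r ∣ Nat.card (pDash A p) ∨ r ∣ Nat.card (pDash B q)} with hπ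
  obtain ⟨T, hT, hTle⟩ := CfsgLib.Coprime.hallD_of_solvable (G := M) π
  have hcA' : Nat.card A' = Nat.card (pDash A p) :=
    Nat.card_congr (Subgroup.subgroupOfEquivOfLe hA'M).toEquiv
  have hcB' : Nat.card B' = Nat.card (pDash B q) :=
    Nat.card_congr (Subgroup.subgroupOfEquivOfLe hB'M).toEquiv
  obtain ⟨x, hx⟩ := hTle A' fun r _ hd => Or.inl (hcA' ▸ hd)
  obtain ⟨y, hy⟩ := hTle B' fun r _ hd => Or.inr (hcB' ▸ hd)
  have hxC : MulAut.conj x • A' ≤ Cp := by
    rintro _ ⟨z, hz, rfl⟩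
    exact (inferInstance : Cp.Normal).conj_mem z (hA'C hz) x
  have hyC : MulAut.conj y • B' ≤ Cq := by
    rintro _ ⟨z, hz, rfl⟩
    exact (inferInstance : Cq.Normal).conj_mem z (hB'C hz) y
  have hfit : Cfsg.fittingSubgroup M ≤ Cfsg.pCore p M ⊔ Cfsg.pCore q M := by
    rw [CfsgLib.Base.fittingSubgroup_eq_iSup_pCore]
    refine iSup_le fun r => ?_
    by_cases hrp : (r : ℕ) = p
    · rw [hrp]; exact le_sup_left
    by_cases hrq : (r : ℕ) = q
    · rw [hrq]; exact le_sup_right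
    have h := hFb _ r.2 hrp hrq
    rw [F, Subgroup.map_eq_bot_iff_of_injective _ M.subtype_injective] at h
    rw [h]
    exact bot_le
  have hcoreT : ∀ r : ℕ, r.Prime → r ∣ Nat.card T → r ≠ p ∧ r ≠ q := by
    intro r hr hd
    refine ⟨fun e => ?_, fun e => ?_⟩ <;> subst e <;> rcases hT.1 _ hr hd with h | h
    · exact not_dvd_card_pDash hr c.nilA h
    · exact hpb (h.trans (Subgroup.card_dvd_of_le pDash_le))
    · exact hqa (h.trans (Subgroup.card_dvd_of_le pDash_le))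
    · exact not_dvd_card_pDash hr c.nilB h
  have hcomm : ∀ a ∈ MulAut.conj x • A', ∀ b ∈ MulAut.conj y • B', a * b = b * a := by
    intro a ha b hb
    rw [← commutatorElement_eq_one_iff_mul_comm]
    have hCp1 : ⁅a, b⁆ ∈ Cp := by
      have h1 := (inferInstance : Cp.Normal).conj_mem a⁻¹ (inv_mem (hxC ha)) b
      have h2 := mul_mem (hxC ha) h1
      rw [commutatorElement_def]
      simpa [mul_assoc] using h2
    have hCq1 : ⁅a, b⁆ ∈ Cq := by
      rw [commutatorElement_def]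
      exact mul_mem ((inferInstance : Cq.Normal).conj_mem b (hyC hb) a) (inv_mem (hyC hb))
    have hFc : ⁅a, b⁆ ∈ Cfsg.pCore p M ⊔ Cfsg.pCore q M := by
      refine hfit (CfsgLib.Base.centralizer_fittingSubgroup_le ?_)
      refine Subgroup.centralizer_le (s := ((Cfsg.fittingSubgroup M : Subgroup M) : Set M))
        (t := ((Cfsg.pCore p M ⊔ Cfsg.pCore q M : Subgroup M) : Set M)) hfit ?_
      refine Subgroup.mem_centralizer_iff.2 fun z hz => ?_
      have hle : Cfsg.pCore p M ⊔ Cfsg.pCore q M ≤ Subgroup.centralizer ({⁅a, b⁆} : Set M) :=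
        sup_le
          (fun w hw => Subgroup.mem_centralizer_singleton_iff.2
            (Subgroup.mem_centralizer_iff.1 hCp1 w hw))
          (fun w hw => Subgroup.mem_centralizer_singleton_iff.2
            (Subgroup.mem_centralizer_iff.1 hCq1 w hw))
      exact Subgroup.mem_centralizer_singleton_iff.1 (hle hz)
    have hTc : ⁅a, b⁆ ∈ T := by
      rw [commutatorElement_def]
      exact mul_mem (mul_mem (mul_mem (hx ha) (hy hb)) (inv_mem (hx ha))) (inv_mem (hy hb))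
    refine orderOf_eq_one_iff.1 (Nat.eq_one_of_dvd_coprimes
      (a := Nat.card T) (b := Nat.card (Cfsg.pCore p M) * Nat.card (Cfsg.pCore q M)) ?_
      (Subgroup.orderOf_dvd_natCard _ hTc)
      ((Subgroup.orderOf_dvd_natCard _ hFc).trans (CfsgLib.Base.card_sup_dvd _ _)))
    obtain ⟨n, hn⟩ := CfsgLib.Base.pCore_eq_pow_card p M
    obtain ⟨m, hm⟩ := CfsgLib.Base.pCore_eq_pow_card q M
    rw [hn, hm]
    exact Nat.Coprime.mul_right
      (Nat.Coprime.pow_right _ ((Nat.Prime.coprime_iff_not_dvd hp).2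
        fun h => (hcoreT p hp h).1 rfl).symm)
      (Nat.Coprime.pow_right _ ((Nat.Prime.coprime_iff_not_dvd hq).2
        fun h => (hcoreT q hq h).2 rfl).symm)
  -- hence all conjugates of the two normal subgroups commute
  refine hB'ne (le_bot_iff.1 ?_)
  rw [← c.centerless, ← Subgroup.centralizer_univ, ← Subgroup.coe_top,
    ← c.normalClosure_eq_top hA'ne]
  intro b hb
  refine Subgroup.mem_centralizer_iff.2 fun w hw => ?_
  have hle : Subgroup.normalClosure ((pDash A p : Subgroup G) : Set G) ≤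
      Subgroup.centralizer ({b} : Set G) := by
    rw [Subgroup.normalClosure, Subgroup.closure_le]
    intro u hu
    obtain ⟨a, ha, hc⟩ := Group.mem_conjugatesOfSet_iff.1 hu
    obtain ⟨g, rfl⟩ := isConj_iff.1 hc
    -- bring `(g, 1)` to `(x, y)`
    obtain ⟨α, hα, β, hβ, he⟩ := c.fac g⁻¹
    obtain ⟨α', hα', β', hβ', he'⟩ := c.fac ((x : G)⁻¹ * (y : G))
    have e1 : g = β⁻¹ * α⁻¹ := by rw [← inv_inv g, he, mul_inv_rev]
    have ha1 : α⁻¹ * a * α ∈ pDash A p := by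
      simpa using (Subgroup.mem_normalizer_iff.1 (le_normalizer_pDash (inv_mem hα)) a).1 ha
    have ha2 : α' * (α⁻¹ * a * α) * α'⁻¹ ∈ pDash A p :=
      (Subgroup.mem_normalizer_iff.1 (le_normalizer_pDash hα') _).1 ha1
    have hb1 : β * b * β⁻¹ ∈ pDash B q :=
      (Subgroup.mem_normalizer_iff.1 (le_normalizer_pDash hβ) b).1 hb
    have hb2 : β'⁻¹ * (β * b * β⁻¹) * β' ∈ pDash B q := by
      simpa using (Subgroup.mem_normalizer_iff.1 (le_normalizer_pDash (inv_mem hβ')) _).1 hb1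
    have h := congrArg Subtype.val (hcomm (MulAut.conj x ⟨_, hA'M ha2⟩)
      ⟨⟨_, hA'M ha2⟩, ha2, rfl⟩ (MulAut.conj y ⟨_, hB'M hb2⟩) ⟨⟨_, hB'M hb2⟩, hb2, rfl⟩)
    simp only [MulAut.conj_apply, Subgroup.coe_mul, Subgroup.coe_inv] at h
    rw [SetLike.mem_coe, Subgroup.mem_centralizer_singleton_iff]
    have hy' : (y : G) = (x : G) * α' * β' := by
      rw [mul_assoc, ← he', mul_inv_cancel_left]
    rw [hy'] at h
    rw [e1]
    generalize (x : G) = X at h
    have h2 : (β⁻¹ * α⁻¹ * a * (β⁻¹ * α⁻¹)⁻¹) * b =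
        β⁻¹ * α'⁻¹ * X⁻¹ * ((X * (α' * (α⁻¹ * a * α) * α'⁻¹) * X⁻¹) *
          ((X * α' * β') * (β'⁻¹ * (β * b * β⁻¹) * β') * (X * α' * β')⁻¹)) * X * α' * β := by
      group
    rw [h2, h]
    group
  exact Subgroup.mem_centralizer_singleton_iff.1 (hle hw)

/-- No proper subgroup contains conjugates of nontrivial normal subgroups of both factors. -/
theorem no_proper (c : Config A B) {A₀ B₀ H : Subgroup G} (hA₀ : Nrm A A₀) (hB₀ : Nrm B B₀)
    (hA₀ne : A₀ ≠ ⊥) (hB₀ne : B₀ ≠ ⊥) (hH : H ≠ ⊤) {x y : G}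
    (hx : MulAut.conj x • A₀ ≤ H) (hy : MulAut.conj y • B₀ ≤ H) : False := by
  obtain ⟨L, hLtop, hLf, hAL, hBL⟩ := c.exists_factorised hA₀ hB₀ hA₀ne hH hx hy
  obtain ⟨r, hr, hFr⟩ := exists_core_ne_bot (c.sol L hLtop hLf)
    (fun e => hA₀ne (le_bot_iff.1 (e ▸ hAL)))
  haveI := Fact.mk hr
  have hH' := c.normalizer_core_ne_top hLtop hFr
  rcases c.dvd_of_core_ne_bot hr hFr with hra | hrb
  · obtain ⟨s, hs, hsr, hsa⟩ := c.primesA r hr
    obtain ⟨M, hMtop, hMf, h1, h2⟩ := c.exists_factorised (nrm_pDash A r) hB₀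
      (pDash_ne_bot hs hr hsr hsa) hH' (x := 1) (y := 1)
      (by
        rw [map_one, one_smul]
        exact (pDash_le_centralizer hr c.nilA (c.core_le hLf hr hra)
          (CfsgLib.Base.isPGroup_map_pCore r L)).trans (Subgroup.centralizer_le_normalizer _))
      (by rw [map_one, one_smul]; exact hBL.trans (CfsgLib.Base.le_normalizer_map_pCore L))
    exact c.no_pDash_pair hMtop hMf hr hra h1 hB₀ hB₀ne h2
  · obtain ⟨s, hs, hsr, hsb⟩ := c.primesB r hr
    obtain ⟨M, hMtop, hMf, h1, h2⟩ := c.symm.exists_factorised (nrm_pDash B r) hA₀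
      (pDash_ne_bot hs hr hsr hsb) hH' (x := 1) (y := 1)
      (by
        rw [map_one, one_smul]
        exact (pDash_le_centralizer hr c.nilB (c.symm.core_le (fac_symm c.fac hLf) hr hrb)
          (CfsgLib.Base.isPGroup_map_pCore r L)).trans (Subgroup.centralizer_le_normalizer _))
      (by rw [map_one, one_smul]; exact hAL.trans (CfsgLib.Base.le_normalizer_map_pCore L))
    exact c.symm.no_pDash_pair hMtop hMf hr hrb h1 hA₀ hA₀ne h2

end Config

end CfsgLib.SolvStruct.KW
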