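import Cfsg.Agent.Lib.Transfer.Control
import Cfsg.Agent.Lib.SolvStruct.WielandtHall
import Cfsg.Agent.Lib.SolvStruct.Factorization
import Cfsg.Agent.Lib.Base.Nilpotent

/-!
# The `p'`-parts of a nilpotent subgroup
-/

set_option autoImplicit false
set_option linter.style.haveILetI false

open scoped Pointwise

namespace CfsgLib.SolvStruct.KW

variable {G : Type*} [Group G] [Finite G] {A : Subgroup G} {p r : ℕ}

/-- The `p'`-part of a (nilpotent) subgroup. -/
def pDash (A : Subgroup G) (p : ℕ) : Subgroup G := (Cfsg.pResidual p A).map A.subtype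

omit [Finite G] in
theorem pDash_le : pDash A p ≤ A := Subgroup.map_subtype_le _

omit [Finite G] in
theorem le_normalizer_pDash : A ≤ Subgroup.normalizer (pDash A p : Set G) := by
  intro a ha
  haveI : (Cfsg.pResidual p A).Normal := CfsgLib.Transfer.pResidual_normal
  refine Subgroup.le_normalizer_map _ ⟨⟨a, ha⟩, ?_, rfl⟩
  rw [SetLike.mem_coe, Subgroup.normalizer_eq_top]
  exact Subgroup.mem_top _

omit [Finite G] in
theorem mem_pDash {x : G} (hx : x ∈ A) (hc : (orderOf x).Coprime p) : x ∈ pDash A p :=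
  ⟨⟨x, hx⟩, CfsgLib.Transfer.mem_pResidual_of_coprime (by rwa [← Subgroup.orderOf_coe]), rfl⟩

theorem not_dvd_card_pDash (hp : p.Prime) (hA : Group.IsNilpotent A) :
    ¬ p ∣ Nat.card (pDash A p) := by
  haveI := Fact.mk hp
  haveI := hA
  rw [pDash, Subgroup.card_map_of_injective A.subtype_injective]
  exact CfsgLib.Transfer.hasNormalPComplement_iff_pResidual.1
    CfsgLib.Transfer.hasNormalPComplement_of_isNilpotent

theorem prime_dvd_card_pDash (hr : r.Prime) (hp : p.Prime) (hne : r ≠ p)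
    (hd : r ∣ Nat.card A) : r ∣ Nat.card (pDash A p) := by
  haveI := Fact.mk hr
  obtain ⟨x, hx⟩ := exists_prime_orderOf_dvd_card' r hd
  have hxm : (x : G) ∈ pDash A p := mem_pDash x.2 (by
    rw [Subgroup.orderOf_coe, hx]
    exact (Nat.coprime_primes hr hp).2 hne)
  rw [← hx, ← Subgroup.orderOf_coe x]
  exact Subgroup.orderOf_dvd_natCard _ hxm

theorem pDash_ne_bot (hr : r.Prime) (hp : p.Prime) (hne : r ≠ p) (hd : r ∣ Nat.card A) :
    pDash A p ≠ ⊥ := by
  intro h
  have := prime_dvd_card_pDash hr hp hne hd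
  rw [h, Subgroup.card_bot] at this
  exact hr.ne_one (Nat.dvd_one.1 this)

/-- The `p'`-part centralises the `p`-elements. -/
theorem commute_pDash (hp : p.Prime) (hA : Group.IsNilpotent A) {x : G} (hx : x ∈ A)
    (hxp : ∃ k, orderOf x = p ^ k) {y : G} (hy : y ∈ pDash A p) : x * y = y * x := by
  haveI := Fact.mk hp
  haveI := hA
  obtain ⟨⟨c, hc⟩, hcres, rfl⟩ := hy
  obtain ⟨k, hk⟩ := hxp
  have hxpg : IsPGroup p (Subgroup.zpowers (⟨x, hx⟩ : A)) := by
    refine IsPGroup.of_card (n := k) ?_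
    rw [Nat.card_zpowers, ← hk, ← Subgroup.orderOf_coe]
  obtain ⟨P, hP⟩ := hxpg.exists_le_sylow
  have hle : Cfsg.pResidual p A ≤ Subgroup.centralizer ((P : Subgroup A) : Set A) :=
    (Subgroup.closure_le _).2 fun g hg =>
      CfsgLib.Transfer.mem_centralizer_sylow_of_isNilpotent P hg
  exact congrArg Subtype.val
    (Subgroup.mem_centralizer_iff.1 (hle hcres) _ (hP (Subgroup.mem_zpowers _)))

theorem pDash_le_centralizer (hp : p.Prime) (hA : Group.IsNilpotent A) {X : Subgroup G}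
    (hXA : X ≤ A) (hX : IsPGroup p X) : pDash A p ≤ Subgroup.centralizer (X : Set G) := by
  intro y hy
  refine Subgroup.mem_centralizer_iff.2 fun x hx => commute_pDash hp hA (hXA hx) ?_ hy
  haveI := Fact.mk hp
  obtain ⟨k, hk⟩ := IsPGroup.iff_orderOf.1 hX ⟨x, hx⟩
  exact ⟨k, by rw [← Subgroup.orderOf_coe] at hk; exact hk⟩

/-- Two different `p'`-parts generate `A`. -/
theorem le_of_pDash_le (hp : p.Prime) (hr : r.Prime) (hne : r ≠ p) {H : Subgroup G}
    (h1 : pDash A p ≤ H) (h2 : pDash A r ≤ H) : A ≤ H := by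
  intro x hx
  haveI := Fact.mk hp
  obtain ⟨a, ha, b, hb, hab, ⟨k, hk⟩, hbp⟩ := CfsgLib.Transfer.exists_pPart_mul (p := p) x
  rw [← hab]
  refine mul_mem (h2 (mem_pDash (Subgroup.zpowers_le.2 hx ha) ?_))
    (h1 (mem_pDash (Subgroup.zpowers_le.2 hx hb) hbp))
  exact ((Nat.coprime_primes hp hr).2 (Ne.symm hne)).pow_left k |>.coprime_dvd_left hk

/-- A nilpotent group has nontrivial central elements of every possible prime order. -/
theorem exists_central_orderOf (hA : Group.IsNilpotent A) (hp : p.Prime)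
    (hd : p ∣ Nat.card A) : ∃ z ∈ A, orderOf z = p ∧ ∀ a ∈ A, a * z = z * a := by
  haveI := Fact.mk hp
  haveI := hA
  obtain ⟨P⟩ : Nonempty (Sylow p A) := inferInstance
  haveI : (P : Subgroup A).Normal :=
    P.normal_of_normalizerCondition Group.normalizerCondition_of_isNilpotent
  have hne : (P : Subgroup A) ≠ ⊥ := P.ne_bot_of_dvd_card hd
  have h1 : (P : Subgroup A) ⊓ Subgroup.center A ≠ ⊥ :=
    CfsgLib.Base.inf_center_ne_bot_of_isNilpotent hne
  have h2 : p ∣ Nat.card ((P : Subgroup A) ⊓ Subgroup.center A : Subgroup A) := by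
    rcases (P.isPGroup'.to_le inf_le_left).card_eq_or_dvd with h | h
    · exact absurd (Subgroup.card_eq_one.1 h) h1
    · exact h
  obtain ⟨z, hz⟩ := exists_prime_orderOf_dvd_card' p h2
  refine ⟨((z : A) : G), (z : A).2, ?_, fun a ha => ?_⟩
  · rw [Subgroup.orderOf_coe, Subgroup.orderOf_coe, hz]
  · exact congrArg Subtype.val (Subgroup.mem_center_iff.1 z.2.2 ⟨a, ha⟩)

end CfsgLib.SolvStruct.KW
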